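import Groth.Agent.Lib.InvRing21.Points
import Groth.Agent.Lib.FpqcDesc.Basic
import Groth.Agent.Lib.GITQuot.Fpqc
import Groth.Agent.Lib.AlgSpace.LqfDescent
import Mathlib.AlgebraicGeometry.Morphisms.UniversallyInjective

/-!
# Homogeneous spaces: separatedness, functions, quasi-affineness from separating functions
-/

set_option autoImplicit false
set_option linter.style.haveILetI false
set_option backward.isDefEq.respectTransparency.types false
universe u

open CategoryTheory MonoidalCategory CartesianMonoidalCategory MonObj AlgebraicGeometry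
open scoped TensorProduct

noncomputable section

namespace Groth.Agent.InvRing21

variable {k : Type u} [Field k]

/-- A morphism separating rational points is universally injective. -/
theorem universallyInjective_of_points [IsAlgClosed k] {X Y : Scheme.{u}} (π : X ⟶ Y)
    (hX : X ⟶ Spec (CommRingCat.of k)) (hY : Y ⟶ Spec (CommRingCat.of k)) (w : π ≫ hY = hX)
    [LocallyOfFiniteType hX] [LocallyOfFiniteType π] [IsSeparated π]
    (hinj : ∀ p q : Spec (CommRingCat.of k) ⟶ X, p ≫ hX = 𝟙 _ → q ≫ hX = 𝟙 _ → p ≫ π = q ≫ π → p = q) :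
    UniversallyInjective π := by
  rw [UniversallyInjective.iff_diagonal, surjective_iff]
  let P := Limits.pullback π π
  let hP : P ⟶ Spec (CommRingCat.of k) := Limits.pullback.fst π π ≫ hX
  haveI : LocallyOfFiniteType hP := inferInstance
  haveI : JacobsonSpace P := LocallyOfFiniteType.jacobsonSpace hP
  intro z
  by_contra hz
  have hcl : IsClosed (Set.range (Limits.pullback.diagonal π).base) :=
    (Limits.pullback.diagonal π).isClosedEmbedding.isClosed_range
  obtain ⟨v, hv, hvc⟩ := nonempty_inter_closedPoints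
    (⟨z, hz⟩ : ((Set.range (Limits.pullback.diagonal π).base)ᶜ).Nonempty) hcl.isOpen_compl.isLocallyClosed
  let q := pointOfClosedPoint hP v hvc
  have hq : q ≫ hP = 𝟙 _ := pointOfClosedPoint_comp hP v hvc
  have h1 : (q ≫ Limits.pullback.fst π π) ≫ hX = 𝟙 _ := by rw [Category.assoc]; exact hq
  have h2 : (q ≫ Limits.pullback.snd π π) ≫ hX = 𝟙 _ := by
    rw [Category.assoc, ← w, ← Category.assoc (Limits.pullback.snd π π), ← Limits.pullback.condition,
      Category.assoc, w]
    exact hq
  have heq := hinj _ _ h1 h2 (by rw [Category.assoc, Category.assoc, Limits.pullback.condition])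
  have hfac : (q ≫ Limits.pullback.fst π π) ≫ Limits.pullback.diagonal π = q :=
    Limits.pullback.hom_ext (by simp) (by simp [heq])
  refine hv ⟨(q ≫ Limits.pullback.fst π π).base (IsLocalRing.closedPoint k), ?_⟩
  exact (congrArg (fun e : Spec (CommRingCat.of k) ⟶ P => e.base (IsLocalRing.closedPoint k)) hfac).trans
    (pointOfClosedPoint_apply hP v hvc _)

/-- A variety with finitely many global functions separating its rational points is quasi-affine. -/
theorem isQuasiAffine_of_separating [IsAlgClosed k] {X : Scheme.{u}} (hX : X ⟶ Spec (CommRingCat.of k))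
    [LocallyOfFiniteType hX] [IsSeparated hX] [CompactSpace X] (s : Finset Γ(X, ⊤))
    (hsep : ∀ p q : Spec (CommRingCat.of k) ⟶ X, p ≫ hX = 𝟙 _ → q ≫ hX = 𝟙 _ →
      (∀ f ∈ s, p.appTop f = q.appTop f) → p = q) : X.IsQuasiAffine := by
  letI : Algebra k Γ(X, ⊤) := ((Scheme.ΓSpecIso (CommRingCat.of k)).inv ≫ hX.appTop).hom.toAlgebra
  let S := Algebra.adjoin k (s : Set Γ(X, ⊤))
  let φ : X ⟶ Spec (CommRingCat.of S) := X.toSpecΓ ≫ Spec.map (CommRingCat.ofHom S.val.toRingHom)
  let hY : Spec (CommRingCat.of S) ⟶ Spec (CommRingCat.of k) := Spec.map (CommRingCat.ofHom (algebraMap k S))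
  have w : φ ≫ hY = hX := by
    rw [Category.assoc, ← Spec.map_comp, ← CommRingCat.ofHom_comp]
    rw [show CommRingCat.ofHom (S.val.toRingHom.comp (algebraMap k S)) =
      (Scheme.ΓSpecIso (CommRingCat.of k)).inv ≫ hX.appTop from rfl, Spec.map_comp, ← Scheme.toSpecΓ_naturality_assoc]
    rw [toSpecΓ_SpecMap_ΓSpecIso_inv (CommRingCat.of k), Category.comp_id]
  haveI : IsSeparated φ := by
    haveI : IsSeparated (φ ≫ hY) := by rw [w]; infer_instance
    exact IsSeparated.of_comp φ hY
  haveI : LocallyOfFiniteType φ := by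
    haveI : LocallyOfFiniteType (φ ≫ hY) := by rw [w]; infer_instance
    exact locallyOfFiniteType_of_comp φ hY
  haveI : UniversallyInjective φ := universallyInjective_of_points φ hX hY w fun p q hp hq hpq =>
    hsep p q hp hq fun f hf => by
      have h := congrArg (fun e : Spec (CommRingCat.of k) ⟶ Spec (CommRingCat.of S) =>
        e.appTop ((Scheme.ΓSpecIso (CommRingCat.of S)).inv ⟨f, Algebra.subset_adjoin hf⟩)) hpq
      have key : φ.appTop ((Scheme.ΓSpecIso (CommRingCat.of S)).inv ⟨f, Algebra.subset_adjoin hf⟩) = f := by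
        show ((Scheme.ΓSpecIso (CommRingCat.of S)).inv ≫ φ.appTop) _ = f
        rw [Scheme.Hom.comp_appTop, Scheme.toSpecΓ_appTop, ← Category.assoc, ← Scheme.ΓSpecIso_inv_naturality,
          Category.assoc, Iso.inv_hom_id, Category.comp_id]
        rfl
      simp only [Scheme.Hom.comp_appTop, CommRingCat.comp_apply, key] at h
      exact h
  haveI : QuasiCompact φ := (quasiCompact_iff_compactSpace φ).2 ‹_›
  haveI : LocallyQuasiFinite φ := inferInstance
  exact AlgSpace.isQuasiAffine_of_lqf φ

/-- Global functions of a quasi-affine scheme separate morphisms into it. -/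
theorem eq_of_appTop_eq {T X : Scheme.{u}} [X.IsQuasiAffine] (p q : T ⟶ X) (h : p.appTop = q.appTop) : p = q := by
  rw [← cancel_mono X.toSpecΓ, Scheme.toSpecΓ_naturality, Scheme.toSpecΓ_naturality, h]

section quotient

variable {G H : Over (Spec (CommRingCat.of k))} [GrpObj G] [GrpObj H] [IsAffine G.left] [Smooth G.hom]
  {i : H ⟶ G} [IsClosedImmersion i.left] {X : Over (Spec (CommRingCat.of k))} {a : AlgGrp.Action G X}
  {o : 𝟙_ (Over (Spec (CommRingCat.of k))) ⟶ X} (hX : AGF.IsQuotient i X a o)

include hX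

theorem IsQuotient.quasiCompact : QuasiCompact (a.orbitMap o).left := by
  obtain ⟨hlft, _, _, _⟩ := hX
  haveI := hlft
  haveI : IsLocallyNoetherian X.left := LocallyOfFiniteType.isLocallyNoetherian X.hom
  haveI : QuasiCompact ((a.orbitMap o).left ≫ X.hom) := by rw [Over.w]; infer_instance
  exact QuasiCompact.of_comp (a.orbitMap o).left X.hom

theorem IsQuotient.compactSpace : CompactSpace X.left := by
  obtain ⟨_, _, hsurj, _⟩ := hX
  refine ⟨?_⟩
  rw [← hsurj.surj.range_eq]
  exact isCompact_range (a.orbitMap o).left.continuous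

theorem IsQuotient.isPullback_diagonal :
    IsPullback (lift (fst G H) ((G ◁ i) ≫ μ[G])) (fst G H ≫ a.orbitMap o) (a.orbitMap o ⊗ₘ a.orbitMap o)
      (lift (𝟙 X) (𝟙 X)) := by
  obtain ⟨_, _, _, hpb⟩ := hX
  set π := a.orbitMap o
  have hw : lift (fst G H) ((G ◁ i) ≫ μ[G]) ≫ (π ⊗ₘ π) = (fst G H ≫ π) ≫ lift (𝟙 X) (𝟙 X) := by
    refine CartesianMonoidalCategory.hom_ext _ _ ?_ ?_
    · simp
    · simp only [Category.assoc, tensorHom_snd, lift_snd, lift_snd_assoc, Category.comp_id]
      exact hpb.w.symm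
  refine ⟨⟨hw⟩, ⟨Limits.PullbackCone.IsLimit.mk hw
    (fun s => hpb.lift (s.fst ≫ fst G G) (s.fst ≫ snd G G) ?_) (fun s => ?_) (fun s => ?_) fun s m h1 _ => ?_⟩⟩
  · have h1 := congrArg (· ≫ fst X X) s.condition
    have h2 := congrArg (· ≫ snd X X) s.condition
    simp only [Category.assoc, tensorHom_fst, tensorHom_snd, lift_fst, lift_snd, Category.comp_id] at h1 h2
    rw [Category.assoc, Category.assoc, h1, h2]
  · exact CartesianMonoidalCategory.hom_ext _ _ (by simp [IsPullback.lift_fst]) (by simp [IsPullback.lift_snd])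
  · rw [IsPullback.lift_fst_assoc]
    have h1 := congrArg (· ≫ fst X X) s.condition
    simp only [Category.assoc, tensorHom_fst, lift_fst, Category.comp_id] at h1
    rw [Category.assoc]
    exact h1
  · exact hpb.hom_ext (by simp [IsPullback.lift_fst, ← h1]) (by simp [IsPullback.lift_snd, ← h1])

theorem IsQuotient.isSeparated [IsMonHom i] : IsSeparated X.hom := by
  have hqc := IsQuotient.quasiCompact hX
  have hpbd := (IsQuotient.isPullback_diagonal hX).map (Over.forget _)
  obtain ⟨_, hflat, hsurj, hpb⟩ := hX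
  set π := a.orbitMap o
  have h1 : IsClosedImmersion (lift (fst G H) ((G ◁ i) ≫ μ[G])).left := by
    let σ : G ⊗ G ≅ G ⊗ G :=
      { hom := lift (fst G G) (fst G G * snd G G)
        inv := lift (fst G G) ((fst G G)⁻¹ * snd G G)
        hom_inv_id := CartesianMonoidalCategory.hom_ext _ _ (by simp) (by
          simp [MonObj.comp_mul, GrpObj.comp_inv])
        inv_hom_id := CartesianMonoidalCategory.hom_ext _ _ (by simp) (by
          simp [MonObj.comp_mul]) }
    have e : lift (fst G H) ((G ◁ i) ≫ μ[G]) = (G ◁ i) ≫ σ.hom :=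
      CartesianMonoidalCategory.hom_ext _ _ (by simp [σ]) (by simp [σ, whisker_mul, MonObj.comp_mul])
    haveI : IsIso σ.hom.left := ((Over.forget _).mapIso σ).isIso_hom
    haveI : IsClosedImmersion (G ◁ i).left := MorphismProperty.of_isPullback
      (IsPullback.of_bot (v₂₁ := (fst G G).left) (v₂₂ := G.hom) (by
        rw [← Over.comp_left, whiskerLeft_fst, Over.w i]
        exact (IsPullback.of_hasPullback G.hom H.hom).flip)
        (congrArg CommaMorphism.left (whiskerLeft_snd G i)).symm (IsPullback.of_hasPullback G.hom G.hom).flip)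
      ‹IsClosedImmersion i.left›
    rw [e, Over.comp_left]
    infer_instance
  have hd : (lift (𝟙 X) (𝟙 X)).left = Limits.pullback.diagonal X.hom :=
    Limits.pullback.hom_ext ((congrArg CommaMorphism.left (lift_fst (𝟙 X) (𝟙 X))).trans
      (Limits.pullback.diagonal_fst X.hom).symm)
      ((congrArg CommaMorphism.left (lift_snd (𝟙 X) (𝟙 X))).trans (Limits.pullback.diagonal_snd X.hom).symm)
  refine (isSeparated_iff X.hom).2 ?_
  rw [← hd]
  haveI := hflat
  haveI := hsurj
  haveI := hqc
  have hfwd : ∀ (P : MorphismProperty Scheme.{u}) [P.IsStableUnderBaseChange] [P.IsMultiplicative], P π.left →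
      P (π ⊗ₘ π).left := by
    intro P _ _ hP
    rw [tensorHom_def, Over.comp_left]
    refine P.comp_mem _ _ (MorphismProperty.of_isPullback (IsPullback.of_bot (v₂₁ := (snd X G).left) ?_
        (congrArg CommaMorphism.left (whiskerRight_fst π G)).symm (IsPullback.of_hasPullback X.hom G.hom)) hP)
      (MorphismProperty.of_isPullback (IsPullback.of_bot (v₂₁ := (fst X X).left) ?_
        (congrArg CommaMorphism.left (whiskerLeft_snd X π)).symm (IsPullback.of_hasPullback X.hom X.hom).flip) hP)
    · rw [← Over.comp_left, whiskerRight_snd, Over.w π]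
      exact IsPullback.of_hasPullback G.hom G.hom
    · rw [← Over.comp_left, whiskerLeft_fst, Over.w π]
      exact (IsPullback.of_hasPullback X.hom G.hom).flip
  haveI := FpqcDesc.descendsAlong_isClosedImmersion.{u}
  exact MorphismProperty.of_isPullback_of_descendsAlong (P := @IsClosedImmersion)
    (Q := (@Surjective ⊓ @Flat ⊓ @QuasiCompact : MorphismProperty Scheme.{u})) hpbd
    ⟨⟨hfwd @Surjective hsurj, hfwd @Flat hflat⟩, hfwd @QuasiCompact hqc⟩ h1

/-- Rational points of a quotient lift. -/
theorem IsQuotient.exists_lift [IsAlgClosed k] (p : Spec (CommRingCat.of k) ⟶ X.left) (hp : p ≫ X.hom = 𝟙 _) :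
    ∃ g : VecGrp.pt k k ⟶ G, g.left ≫ (a.orbitMap o).left = p := by
  obtain ⟨_, _, hsurj, _⟩ := hX
  haveI : JacobsonSpace G.left := LocallyOfFiniteType.jacobsonSpace G.hom
  set π := a.orbitMap o
  obtain ⟨v, hv⟩ := hsurj.surj (p.base (IsLocalRing.closedPoint k))
  have hcl : IsClosed ({p.base (IsLocalRing.closedPoint k)} : Set X.left) := by
    haveI := isClosedImmersion_of_comp_eq_id _ _ hp
    have hrange := p.isClosedEmbedding.isClosed_range
    have : Subsingleton (Spec (CommRingCat.of k)) := inferInstanceAs (Subsingleton (PrimeSpectrum k))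
    rwa [Set.range_eq_singleton_iff.2 fun z => congrArg p.base (Subsingleton.elim z _)] at hrange
  obtain ⟨c, hc, hcc⟩ := nonempty_inter_closedPoints
    (⟨v, hv⟩ : (π.left.base ⁻¹' {p.base (IsLocalRing.closedPoint k)}).Nonempty)
    (hcl.preimage π.left.continuous).isLocallyClosed
  let g : VecGrp.pt k k ⟶ G := Over.homMk (pointOfClosedPoint G.hom c hcc) (by
    show pointOfClosedPoint G.hom c hcc ≫ G.hom = Spec.map (CommRingCat.ofHom (algebraMap k k))
    rw [pointOfClosedPoint_comp, show CommRingCat.ofHom (algebraMap k k) = 𝟙 _ from rfl, Spec.map_id])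
  refine ⟨g, ext_of_apply_closedPoint_eq X.hom ?_ hp ?_⟩
  · rw [Category.assoc, Over.w π]
    exact pointOfClosedPoint_comp G.hom c hcc
  · exact (congrArg π.left.base (pointOfClosedPoint_apply G.hom c hcc _)).trans hc

theorem IsQuotient.comp_eq_iff {T : Over (Spec (CommRingCat.of k))} (g g' : T ⟶ G) :
    g ≫ a.orbitMap o = g' ≫ a.orbitMap o ↔ ∃ h : T ⟶ H, g' = g * (h ≫ i) := by
  obtain ⟨_, _, _, hpb⟩ := hX
  constructor
  · intro e
    obtain ⟨t, ht1, ht2⟩ := hpb.exists_lift g g' e
    refine ⟨t ≫ snd G H, ?_⟩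
    rw [← ht2, whisker_mul, MonObj.comp_mul, ht1, Category.assoc]
  · rintro ⟨h, rfl⟩
    have := congrArg (lift g h ≫ ·) hpb.w
    simp only [← Category.assoc, lift_fst, whisker_mul, MonObj.comp_mul, lift_snd] at this
    exact this

theorem IsQuotient.isRTransInv_appTop (F : Γ(X.left, ⊤)) :
    AGF.IsRTransInv i ((a.orbitMap o).left.appTop F) := by
  obtain ⟨_, _, _, hpb⟩ := hX
  show ((G ◁ i) ≫ μ[G]).left.appTop _ = (fst G H).left.appTop _
  rw [← CommRingCat.comp_apply, ← CommRingCat.comp_apply, ← Scheme.Hom.comp_appTop, ← Scheme.Hom.comp_appTop,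
    ← Over.comp_left, ← Over.comp_left, hpb.w]

theorem IsQuotient.appTop_bijOn :
    Function.Injective (a.orbitMap o).left.appTop ∧
      ∀ f : Γ(G.left, ⊤), AGF.IsRTransInv i f → ∃ F : Γ(X.left, ⊤), (a.orbitMap o).left.appTop F = f := by
  haveI := IsQuotient.quasiCompact hX
  obtain ⟨_, hflat, hsurj, hpb⟩ := hX
  haveI := hflat
  haveI := hsurj
  haveI : EffectiveEpi (a.orbitMap o).left := inferInstance
  refine ⟨fun F F' h => ?_, fun f hf => ?_⟩
  · have : (a.orbitMap o).left ≫ GITQuot.fnS F = (a.orbitMap o).left ≫ GITQuot.fnS F' := by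
      rw [GITQuot.comp_fnS, GITQuot.comp_fnS]; exact congrArg _ h
    simpa [GITQuot.valA1_fnS] using congrArg GITQuot.valA1 ((cancel_epi (a.orbitMap o).left).1 this)
  · have hpb' : IsPullback (fst G H).left ((G ◁ i) ≫ μ[G]).left (a.orbitMap o).left (a.orbitMap o).left :=
      hpb.map (Over.forget _)
    have hdesc : ∀ {Z : Scheme.{u}} (g₁ g₂ : Z ⟶ G.left), g₁ ≫ (a.orbitMap o).left = g₂ ≫ (a.orbitMap o).left →
        g₁ ≫ GITQuot.fnS f = g₂ ≫ GITQuot.fnS f := by
      intro Z g₁ g₂ e
      obtain ⟨t, ht1, ht2⟩ := hpb'.exists_lift g₁ g₂ e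
      rw [← ht1, ← ht2, Category.assoc, Category.assoc]
      refine congrArg (t ≫ ·) ?_
      rw [GITQuot.comp_fnS, GITQuot.comp_fnS]
      exact congrArg GITQuot.fnS (show (fst G H).left.appTop f = ((G ◁ i) ≫ μ[G]).left.appTop f from hf.symm)
    refine ⟨GITQuot.valA1 (EffectiveEpi.desc (a.orbitMap o).left (GITQuot.fnS f) hdesc), ?_⟩
    rw [← GITQuot.valA1_comp, EffectiveEpi.fac, GITQuot.valA1_fnS]

end quotient

end Groth.Agent.InvRing21
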