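import Groth.Prelude.Def_VecGrp
import Groth.Prelude.Def_W4bk4grossh1223Act
import Groth.Prelude.Def_W4bk4grossh111Obs
import Groth.Agent.Lib.AffGrp19.Basic

/-!
# Coefficient functions of rational representations and invariance under translations
-/

set_option autoImplicit false
set_option linter.style.haveILetI false
set_option backward.isDefEq.respectTransparency.types false
universe u

open CategoryTheory MonoidalCategory CartesianMonoidalCategory MonObj AlgebraicGeometry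
open scoped TensorProduct

noncomputable section

namespace Groth.Agent.InvRing21

variable {k : Type u} [Field k]

/-- The global functions of a scheme over `k` as a `k`-algebra. -/
@[reducible] def gamAlg (T : Over (Spec (CommRingCat.of k))) : Algebra k Γ(T.left, ⊤) :=
  ((Scheme.ΓSpecIso (CommRingCat.of k)).inv ≫ T.hom.appTop).hom.toAlgebra

attribute [local instance] gamAlg

theorem isoSpec_inv_spec (R : CommRingCat.{u}) :
    (Spec R).isoSpec.inv = Spec.map (Scheme.ΓSpecIso R).inv := by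
  rw [← cancel_epi (Spec R).isoSpec.hom, Iso.hom_inv_id]
  exact (toSpecΓ_SpecMap_ΓSpecIso_inv R).symm

/-- The tautological point of an affine scheme over `k`. -/
def uPt (T : Over (Spec (CommRingCat.of k))) [IsAffine T.left] : VecGrp.pt k Γ(T.left, ⊤) ⟶ T :=
  Over.homMk T.left.isoSpec.inv (by
    show T.left.isoSpec.inv ≫ T.hom = Spec.map _
    rw [RingHom.algebraMap_toAlgebra, CommRingCat.ofHom_hom, Spec.map_comp, ← isoSpec_inv_spec,
      Scheme.isoSpec_inv_naturality])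

/-- Pullback of global functions as an algebra map. -/
def appAlg {T T' : Over (Spec (CommRingCat.of k))} (f : T ⟶ T') : Γ(T'.left, ⊤) →ₐ[k] Γ(T.left, ⊤) :=
  { f.left.appTop.hom with
    commutes' := fun c => by
      show f.left.appTop (((Scheme.ΓSpecIso (CommRingCat.of k)).inv ≫ T'.hom.appTop) c) =
        ((Scheme.ΓSpecIso (CommRingCat.of k)).inv ≫ T.hom.appTop) c
      rw [← Over.w f, Scheme.Hom.comp_appTop]
      rfl }

@[simp] theorem appAlg_apply {T T' : Over (Spec (CommRingCat.of k))} (f : T ⟶ T') (x : Γ(T'.left, ⊤)) :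
    appAlg f x = f.left.appTop x := rfl

theorem ptMap_appAlg {T T' : Over (Spec (CommRingCat.of k))} [IsAffine T.left] [IsAffine T'.left] (f : T ⟶ T') :
    VecGrp.ptMap (appAlg f) ≫ uPt T' = uPt T ≫ f :=
  Over.OverMorphism.ext (Scheme.isoSpec_inv_naturality f.left)

variable {M : Type u} [AddCommGroup M] [Module k M]

/-- Contraction with a linear form. -/
def ctr {B : Type u} [CommRing B] [Algebra k B] (ξ : Module.Dual k M) : B ⊗[k] M →ₗ[k] B :=
  (TensorProduct.rid k B).toLinearMap ∘ₗ ξ.lTensor B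

theorem ctr_tmul {B : Type u} [CommRing B] [Algebra k B] (ξ : Module.Dual k M) (b : B) (m : M) :
    ctr ξ (b ⊗ₜ[k] m) = ξ m • b := rfl

theorem ctr_Wmap {B B' : Type u} [CommRing B] [Algebra k B] [CommRing B'] [Algebra k B'] (φ : B →ₐ[k] B')
    (ξ : Module.Dual k M) (x : B ⊗[k] M) : φ (ctr ξ x) = ctr ξ (VecGrp.Wmap φ x) := by
  induction x using TensorProduct.induction_on with
  | zero => simp
  | tmul b m => rw [VecGrp.Wmap_tmul, ctr_tmul, ctr_tmul, map_smul]
  | add x y hx hy => simp only [map_add, hx, hy]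

theorem eq_of_ctr_eq {B : Type u} [CommRing B] [Algebra k B] {x y : B ⊗[k] M}
    (h : ∀ ξ : Module.Dual k M, ctr ξ x = ctr ξ y) : x = y := by
  let b := Module.Free.chooseBasis k M
  refine (TensorProduct.equivFinsuppOfBasisRight b).injective (Finsupp.ext fun j => ?_)
  have key : ∀ z : B ⊗[k] M, TensorProduct.equivFinsuppOfBasisRight b z j = ctr (b.coord j) z := by
    intro z
    induction z using TensorProduct.induction_on with
    | zero => simp
    | tmul c m => simp [ctr_tmul, TensorProduct.equivFinsuppOfBasisRight_apply_tmul_apply]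
    | add x y hx hy => simp [hx, hy]
  rw [key, key, h]

variable {G : Over (Spec (CommRingCat.of k))} [GrpObj G] [IsAffine G.left] (ρ : VecGrp.GMod G M)

/-- The coefficient function `x ↦ ξ(x · a)`. -/
def coef (ξ : Module.Dual k M) (a : M) : Γ(G.left, ⊤) :=
  ctr ξ (ρ.ρ Γ(G.left, ⊤) (uPt G) ((1 : Γ(G.left, ⊤)) ⊗ₜ[k] a))

theorem appTop_coef {T : Over (Spec (CommRingCat.of k))} [IsAffine T.left] (g : T ⟶ G) (ξ : Module.Dual k M)
    (a : M) : g.left.appTop (coef ρ ξ a) = ctr ξ (ρ.ρ Γ(T.left, ⊤) (uPt T ≫ g) ((1 : Γ(T.left, ⊤)) ⊗ₜ[k] a)) := by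
  rw [← appAlg_apply, coef, ctr_Wmap, ρ.naturality, ptMap_appAlg, VecGrp.Wmap_tmul, map_one]

instance isAffine_tensor (X Y : Over (Spec (CommRingCat.of k))) [IsAffine X.left] [IsAffine Y.left] :
    IsAffine (X ⊗ Y).left :=
  inferInstanceAs (IsAffine (Limits.pullback X.hom Y.hom))

theorem rho_mul {G : Over (Spec (CommRingCat.of k))} [GrpObj G] (ρ : VecGrp.GMod G M) {B : Type u} [CommRing B]
    [Algebra k B] (p q : VecGrp.pt k B ⟶ G) (x : B ⊗[k] M) : ρ.ρ B (p * q) x = ρ.ρ B p (ρ.ρ B q x) := by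
  rw [map_mul]; rfl

omit [IsAffine G.left] in
/-- Being fixed pulls back along morphisms of test schemes. -/
theorem fixed_comp {T T' : Over (Spec (CommRingCat.of k))} [IsAffine T.left] [IsAffine T'.left] (f : T' ⟶ T)
    (g : T ⟶ G) (a : M)
    (h : ρ.ρ Γ(T.left, ⊤) (uPt T ≫ g) ((1 : Γ(T.left, ⊤)) ⊗ₜ[k] a) = (1 : Γ(T.left, ⊤)) ⊗ₜ[k] a) :
    ρ.ρ Γ(T'.left, ⊤) (uPt T' ≫ f ≫ g) ((1 : Γ(T'.left, ⊤)) ⊗ₜ[k] a) = (1 : Γ(T'.left, ⊤)) ⊗ₜ[k] a := by
  have := congrArg (VecGrp.Wmap (appAlg f)) h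
  rw [ρ.naturality, VecGrp.Wmap_tmul, map_one, ← Category.assoc, ptMap_appAlg, Category.assoc] at this
  exact this

/-- Contractions of a translate. -/
theorem appTop_mul_coef {T P : Over (Spec (CommRingCat.of k))} [IsAffine P.left] (p : P ⟶ G) (q : P ⟶ T) (g : T ⟶ G)
    (ξ : Module.Dual k M) (a : M) :
    (p * (q ≫ g)).left.appTop (coef ρ ξ a) =
      ctr ξ (ρ.ρ Γ(P.left, ⊤) (uPt P ≫ p) (ρ.ρ Γ(P.left, ⊤) (uPt P ≫ q ≫ g) ((1 : Γ(P.left, ⊤)) ⊗ₜ[k] a))) := by
  rw [appTop_coef, MonObj.comp_mul, rho_mul]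

omit [IsAffine G.left] in
theorem whisker_mul {T : Over (Spec (CommRingCat.of k))} (g : T ⟶ G) :
    (G ◁ g) ≫ μ[G] = fst G T * (snd G T ≫ g) := by
  rw [Hom.mul_def]
  congr 1

/-- A vector fixed by `g` has coefficient functions invariant under right translation by `g`. -/
theorem isRTransInv_coef {T : Over (Spec (CommRingCat.of k))} [IsAffine T.left] (g : T ⟶ G) (a : M)
    (h : ρ.ρ Γ(T.left, ⊤) (uPt T ≫ g) ((1 : Γ(T.left, ⊤)) ⊗ₜ[k] a) = (1 : Γ(T.left, ⊤)) ⊗ₜ[k] a)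
    (ξ : Module.Dual k M) : AGF.IsRTransInv g (coef ρ ξ a) := by
  refine (congrArg (fun m => (m.left.appTop) (coef ρ ξ a)) (whisker_mul g)).trans ?_
  exact ((appTop_mul_coef ρ (fst G T) (snd G T) g ξ a).trans
    (congrArg (fun z => ctr ξ (ρ.ρ _ (uPt (G ⊗ T) ≫ fst G T) z)) (fixed_comp ρ (snd G T) g a h))).trans
    (appTop_coef ρ (fst G T) ξ a).symm

/-- Conversely, if all coefficient functions of a vector are invariant under `g`, it is fixed by `g`. -/
theorem fixed_of_isRTransInv {T : Over (Spec (CommRingCat.of k))} [IsAffine T.left] (g : T ⟶ G) (a : M)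
    (h : ∀ ξ : Module.Dual k M, AGF.IsRTransInv g (coef ρ ξ a)) :
    ρ.ρ Γ(T.left, ⊤) (uPt T ≫ g) ((1 : Γ(T.left, ⊤)) ⊗ₜ[k] a) = (1 : Γ(T.left, ⊤)) ⊗ₜ[k] a := by
  have key : ρ.ρ Γ((G ⊗ T).left, ⊤) (uPt (G ⊗ T) ≫ snd G T ≫ g) (1 ⊗ₜ[k] a) = 1 ⊗ₜ[k] a :=
    (ρ.ρ Γ((G ⊗ T).left, ⊤) (uPt (G ⊗ T) ≫ fst G T)).injective (eq_of_ctr_eq fun ξ =>
      ((appTop_mul_coef ρ (fst G T) (snd G T) g ξ a).symm.trans
        ((congrArg (fun m : G ⊗ T ⟶ G => (m.left.appTop) (coef ρ ξ a)) (whisker_mul g)).symm.trans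
          (show ((G ◁ g) ≫ μ[G]).left.appTop (coef ρ ξ a) = (fst G T).left.appTop (coef ρ ξ a) from h ξ))).trans
        (appTop_coef ρ (fst G T) ξ a))
  have := fixed_comp ρ (lift (1 : T ⟶ G) (𝟙 T)) (snd G T ≫ g) a key
  rw [← Category.assoc (lift (1 : T ⟶ G) (𝟙 T)), lift_snd, Category.id_comp] at this
  exact this

/-- Over an affine test scheme the tautological point reaches every point. -/
theorem fixed_iff_pt (B : Type u) [CommRing B] [Algebra k B] (g : VecGrp.pt k B ⟶ G) (a : M) :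
    haveI : IsAffine (VecGrp.pt k B).left := inferInstanceAs (IsAffine (Spec (CommRingCat.of B)))
    ρ.ρ _ (uPt (VecGrp.pt k B) ≫ g) (1 ⊗ₜ[k] a) = 1 ⊗ₜ[k] a ↔ ρ.ρ B g (1 ⊗ₜ[k] a) = 1 ⊗ₜ[k] a := by
  haveI : IsAffine (VecGrp.pt k B).left := inferInstanceAs (IsAffine (Spec (CommRingCat.of B)))
  let φ : Γ((VecGrp.pt k B).left, ⊤) →ₐ[k] B :=
    { (Scheme.ΓSpecIso (CommRingCat.of B)).hom.hom with
      commutes' := fun c => by
        show ((Scheme.ΓSpecIso (CommRingCat.of k)).inv ≫ (Spec.map (CommRingCat.ofHom (algebraMap k B))).appTop ≫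
          (Scheme.ΓSpecIso (CommRingCat.of B)).hom) c = _
        rw [Scheme.ΓSpecIso_naturality, Iso.inv_hom_id_assoc]
        rfl }
  let ψ : B →ₐ[k] Γ((VecGrp.pt k B).left, ⊤) :=
    { (Scheme.ΓSpecIso (CommRingCat.of B)).inv.hom with
      commutes' := fun c => by
        show ((CommRingCat.ofHom (algebraMap k B)) ≫ (Scheme.ΓSpecIso (CommRingCat.of B)).inv) c = _
        rw [Scheme.ΓSpecIso_inv_naturality]
        rfl }
  have hψ : VecGrp.ptMap ψ = uPt (VecGrp.pt k B) := Over.OverMorphism.ext (by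
    show Spec.map (Scheme.ΓSpecIso (CommRingCat.of B)).inv = (Spec (CommRingCat.of B)).isoSpec.inv
    rw [← cancel_epi (Spec (CommRingCat.of B)).isoSpec.hom, Iso.hom_inv_id]
    exact toSpecΓ_SpecMap_ΓSpecIso_inv (CommRingCat.of B))
  have hφ : VecGrp.ptMap φ ≫ uPt (VecGrp.pt k B) = 𝟙 _ := by
    rw [← hψ]
    refine Over.OverMorphism.ext ?_
    show Spec.map (Scheme.ΓSpecIso (CommRingCat.of B)).hom ≫ Spec.map (Scheme.ΓSpecIso (CommRingCat.of B)).inv = 𝟙 _
    rw [← Spec.map_comp, Iso.inv_hom_id, Spec.map_id]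
  constructor
  · intro h
    have := congrArg (VecGrp.Wmap φ) h
    rwa [ρ.naturality, VecGrp.Wmap_tmul, map_one, ← Category.assoc, hφ, Category.id_comp] at this
  · intro h
    have := congrArg (VecGrp.Wmap ψ) h
    rwa [ρ.naturality, VecGrp.Wmap_tmul, map_one, hψ] at this

end Groth.Agent.InvRing21
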