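import Groth.Agent.Lib.FlatH4.GenFreeRed
import Mathlib.RingTheory.Spectrum.Prime.Chevalley
import Mathlib.RingTheory.Jacobson.Ring
import Mathlib.RingTheory.Nullstellensatz
import Mathlib.RingTheory.FinitePresentation
import Mathlib.RingTheory.Localization.Away.AdjoinRoot

/-!
# Generic openness of the projection to a finitely generated subalgebra, on points
-/

set_option autoImplicit false
universe u

open scoped TensorProduct

namespace Groth.Agent.InvRing21

variable {k : Type u} [Field k] [IsAlgClosed k] {A : Type u} [CommRing A] [Algebra k A]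

/-- A point avoiding an element and lying over a given point of a subalgebra. -/
theorem exists_point_over [Algebra.FiniteType k A] (R : Subalgebra k A) (χ : A →ₐ[k] k) (q : Ideal A) [q.IsPrime]
    (a : A) (ha : a ∉ q) (hq : ∀ r : R, χ r = 0 → (r : A) ∈ q) :
    ∃ χ' : A →ₐ[k] k, χ' a ≠ 0 ∧ ∀ r ∈ R, χ' r = χ r := by
  haveI : IsJacobsonRing A := isJacobsonRing_of_finiteType (A := k)
  have hjac : q.jacobson = q := IsJacobsonRing.out inferInstance (Ideal.IsPrime.isRadical ‹_›)
  obtain ⟨M, ⟨hqM, hM⟩, haM⟩ : ∃ M : Ideal A, (q ≤ M ∧ M.IsMaximal) ∧ a ∉ M := by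
    by_contra! h
    exact ha (hjac ▸ Ideal.mem_sInf.2 fun {M} hM => h M hM)
  haveI := hM
  letI : Field (A ⧸ M) := Ideal.Quotient.field M
  haveI : Algebra.FiniteType k (A ⧸ M) :=
    Algebra.FiniteType.of_surjective (Ideal.Quotient.mkₐ k M) Ideal.Quotient.mk_surjective
  haveI : Module.Finite k (A ⧸ M) := finite_of_finite_type_of_isJacobsonRing k (A ⧸ M)
  have hbij : Function.Bijective (algebraMap k (A ⧸ M)) :=
    ⟨(algebraMap k (A ⧸ M)).injective, IsAlgClosed.algebraMap_bijective_of_isIntegral.2⟩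
  let e : k ≃ₐ[k] A ⧸ M := AlgEquiv.ofBijective (Algebra.ofId k _) hbij
  let χ' : A →ₐ[k] k := e.symm.toAlgHom.comp (Ideal.Quotient.mkₐ k M)
  have hker : ∀ x, χ' x = 0 ↔ x ∈ M := fun x => by
    rw [← Ideal.Quotient.eq_zero_iff_mem]
    exact map_eq_zero_iff e.symm.toAlgHom e.symm.injective
  refine ⟨χ', fun h => haM ((hker a).1 h), fun r hr => ?_⟩
  have := (hker _).2 (hqM (hq ⟨r - algebraMap k A (χ r), sub_mem hr (R.algebraMap_mem _)⟩ (by simp)))
  simpa [sub_eq_zero] using this

/-- Off the zero locus of some nonzero element, principal open subsets have open image. -/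
theorem exists_isOpen_image {R S : Type u} [CommRing R] [IsReduced R] [Nontrivial R] [CommRing S] [Algebra R S]
    [Algebra.FiniteType R S] : ∃ f : R, f ≠ 0 ∧ ∀ a : S, ∃ U : Set (PrimeSpectrum R), IsOpen U ∧
      (∀ q : PrimeSpectrum S, algebraMap R S f ∉ q.asIdeal → a ∉ q.asIdeal → PrimeSpectrum.comap (algebraMap R S) q ∈ U) ∧
      ∀ p ∈ U, ∃ q : PrimeSpectrum S, a ∉ q.asIdeal ∧ PrimeSpectrum.comap (algebraMap R S) q = p := by
  obtain ⟨f, hf, -, hfree⟩ := FlatH4.exists_free_and_finitePresentation_of_isReduced (R := R) (S := S) (b := 1) one_ne_zero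
  refine ⟨f, hf, fun a => ?_⟩
  let L := Localization.Away f
  obtain ⟨hFree, hFP⟩ := hfree L (IsLocalization.Away.algebraMap_isUnit f)
  have : Module.Flat R L := IsLocalization.flat L (Submonoid.powers f)
  have : Module.Flat L (L ⊗[R] S) := Module.Flat.of_free
  have : Module.Flat R (L ⊗[R] S) := Module.Flat.trans R L _
  have : Algebra.FinitePresentation R L := IsLocalization.Away.finitePresentation f
  have : Algebra.FinitePresentation R (L ⊗[R] S) := Algebra.FinitePresentation.trans R L _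
  let inc : S →ₐ[R] L ⊗[R] S := Algebra.TensorProduct.includeRight
  refine ⟨_, PrimeSpectrum.isOpenMap_comap_of_hasGoingDown_of_finitePresentation (R := R) (S := L ⊗[R] S) _
    (PrimeSpectrum.basicOpen (inc a)).isOpen, fun q hqf hqa => ?_, ?_⟩
  · let K := q.asIdeal.ResidueField
    have hmem : ∀ x : S, algebraMap S K x = 0 ↔ x ∈ q.asIdeal := fun x => Ideal.algebraMap_residueField_eq_zero
    let l : L →ₐ[R] K := IsLocalization.liftAlgHom (M := Submonoid.powers f) (f := Algebra.ofId R K) (by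
      rintro ⟨_, n, rfl⟩
      show IsUnit (algebraMap R K (f ^ n))
      rw [map_pow, IsScalarTower.algebraMap_apply R S K]
      exact (Ne.isUnit fun h => hqf ((hmem _).1 h)).pow n)
    let ψ : L ⊗[R] S →ₐ[R] K := Algebra.TensorProduct.lift l (IsScalarTower.toAlgHom R S K) fun _ _ => mul_comm _ _
    refine ⟨⟨RingHom.ker ψ.toRingHom, RingHom.ker_isPrime _⟩, ?_, PrimeSpectrum.ext ?_⟩
    · show ψ (inc a) ≠ 0
      simp only [ψ, inc, Algebra.TensorProduct.includeRight_apply, Algebra.TensorProduct.lift_tmul, map_one, one_mul]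
      exact fun h => hqa ((hmem _).1 h)
    · ext r
      show ψ (algebraMap R _ r) = 0 ↔ algebraMap R S r ∈ q.asIdeal
      rw [AlgHom.commutes, IsScalarTower.algebraMap_apply R S K, hmem]
  · rintro _ ⟨Q, hQ, rfl⟩
    refine ⟨PrimeSpectrum.comap inc.toRingHom Q, hQ, PrimeSpectrum.ext ?_⟩
    ext r
    show inc (algebraMap R S r) ∈ Q.asIdeal ↔ algebraMap R (L ⊗[R] S) r ∈ Q.asIdeal
    rw [AlgHom.commutes]

/-- Off the zero locus of some function of the subalgebra, the image of every principal open subset is open. -/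
theorem exists_open_image [IsReduced A] [Nontrivial A] [Algebra.FiniteType k A] (R : Subalgebra k A) (hR : R.FG) :
    ∃ f ∈ R, f ≠ 0 ∧ ∀ (a : A) (χ : A →ₐ[k] k), χ f ≠ 0 → χ a ≠ 0 →
      ∃ t ∈ R, χ t ≠ 0 ∧ ∀ χ' : A →ₐ[k] k, χ' t ≠ 0 → ∃ χ'' : A →ₐ[k] k, χ'' a ≠ 0 ∧ ∀ r ∈ R, χ'' r = χ' r := by
  have : IsReduced R := isReduced_of_injective R.val Subtype.val_injective
  have : Algebra.FiniteType R A := Algebra.FiniteType.of_restrictScalars_finiteType k R A
  obtain ⟨f, hf, hopen⟩ := exists_isOpen_image (R := R) (S := A)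
  refine ⟨f, f.2, fun h => hf (Subtype.ext h), fun a χ hχf hχa => ?_⟩
  obtain ⟨U, hUo, hin, hout⟩ := hopen a
  obtain ⟨_, ⟨t, rfl⟩, ht, htU⟩ := PrimeSpectrum.isTopologicalBasis_basic_opens.exists_subset_of_mem_open
    (hin ⟨RingHom.ker χ.toRingHom, RingHom.ker_isPrime _⟩ hχf hχa) hUo
  refine ⟨t, t.2, fun h => ht h, fun χ' hχ' => ?_⟩
  obtain ⟨q, hq, hqe⟩ := hout _ (htU (show PrimeSpectrum.comap (algebraMap R A)
    ⟨RingHom.ker χ'.toRingHom, RingHom.ker_isPrime _⟩ ∈ _ from fun h => hχ' h))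
  refine exists_point_over R χ' q.asIdeal a hq fun r hr => ?_
  have h2 : r ∈ (PrimeSpectrum.comap (algebraMap R A) q).asIdeal := by rw [hqe]; exact hr
  exact h2

end Groth.Agent.InvRing21
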