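import Groth.Agent.Lib.InvRing21.MatRep
import Groth.Agent.Lib.UnitsRos.Affine

/-!
# Modules from multiplicative matrices; stabilisers of vectors
-/

set_option autoImplicit false
set_option linter.style.haveILetI false
set_option backward.isDefEq.respectTransparency.types false
universe u

open CategoryTheory MonoidalCategory CartesianMonoidalCategory MonObj AlgebraicGeometry
open scoped TensorProduct

noncomputable section

namespace Groth.Agent.InvRing21

variable {k : Type u} [Field k]

attribute [local instance] gamAlg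

variable {G : Over (Spec (CommRingCat.of k))} [GrpObj G] [IsAffine G.left]

/-- The converse of `mem_fixedUnder_regular`. -/
theorem isRTransInv_of_regular_fixed {T : Over (Spec (CommRingCat.of k))} [IsAffine T.left] (g : T ⟶ G)
    (f : Γ(G.left, ⊤))
    (h : (regular G).ρ Γ(T.left, ⊤) (uPt T ≫ g) ((1 : Γ(T.left, ⊤)) ⊗ₜ[k] f) = (1 : Γ(T.left, ⊤)) ⊗ₜ[k] f) :
    AGF.IsRTransInv g f := by
  rw [regular_one_tmul] at h
  let ψ : Γ(T.left, ⊤) ⊗[k] Γ(G.left, ⊤) →ₐ[k] Γ((G ⊗ T).left, ⊤) :=
    Algebra.TensorProduct.lift (appAlg (snd G T)) (appAlg (fst G T)) fun _ _ => mul_comm _ _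
  have h1 : VecGrp.ptMap ψ ≫ xPt G Γ(T.left, ⊤) = uPt (G ⊗ T) ≫ fst G T := by
    rw [xPt, ← Category.assoc, ptMap_comp, show ψ.comp Algebra.TensorProduct.includeRight = appAlg (fst G T) from
      AlgHom.ext fun x => by simp [ψ], ptMap_appAlg]
  have h2 : VecGrp.ptMap ψ ≫ gPt (uPt T ≫ g) = uPt (G ⊗ T) ≫ snd G T ≫ g := by
    rw [gPt, ← Category.assoc, ptMap_comp,
      show ψ.comp (Algebra.TensorProduct.includeLeft (S := k)) = appAlg (snd G T) from
      AlgHom.ext fun x => by simp [ψ], ← Category.assoc, ptMap_appAlg, Category.assoc]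
  have e := congrArg ψ h
  rw [← AlgHom.comp_apply, ← val_ptMap, MonObj.comp_mul, h1, h2, ← MonObj.comp_mul, ← whisker_mul, val_uPt_comp] at e
  refine e.trans ?_
  show ψ (1 ⊗ₜ f) = _
  rw [Algebra.TensorProduct.lift_tmul, map_one, _root_.one_mul]
  rfl

section ofMatrix

variable {J : Type u} [Fintype J] [DecidableEq J] (C : J → J → Γ(G.left, ⊤))
  (hmul : ∀ (B : Type u) [CommRing B] [Algebra k B] (g h : VecGrp.pt k B ⟶ G) (i j : J),
    val (g * h) (C i j) = ∑ l, val g (C i l) * val h (C l j))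
  (hone : ∀ (B : Type u) [CommRing B] [Algebra k B] (i j : J), val (1 : VecGrp.pt k B ⟶ G) (C i j) = if i = j then 1 else 0)

include hmul hone in
theorem mat_mul_eq (B : Type u) [CommRing B] [Algebra k B] :
    (∀ g h : VecGrp.pt k B ⟶ G, Matrix.of (fun i j => val (g * h) (C i j)) =
      Matrix.of (fun i j => val g (C i j)) * Matrix.of (fun i j => val h (C i j))) ∧
    Matrix.of (fun i j => val (1 : VecGrp.pt k B ⟶ G) (C i j)) = 1 := by
  constructor
  · intro g h
    ext i j
    rw [Matrix.mul_apply]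
    exact hmul B g h i j
  · ext i j
    rw [Matrix.one_apply]
    exact hone B i j

/-- The linear map on `B ⊗ k^J` given by the matrix at a point. -/
def matEnd {B : Type u} [CommRing B] [Algebra k B] (g : VecGrp.pt k B ⟶ G) :
    Module.End B (B ⊗[k] (J → k)) :=
  Matrix.toLinAlgEquiv ((Pi.basisFun k J).baseChange B) (Matrix.of fun i j => val g (C i j))

theorem matEnd_apply {B : Type u} [CommRing B] [Algebra k B] (g : VecGrp.pt k B ⟶ G) (j : J) :
    matEnd C g ((1 : B) ⊗ₜ[k] Pi.basisFun k J j) = ∑ i, val g (C i j) ⊗ₜ[k] Pi.basisFun k J i := by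
  rw [matEnd, ← Module.Basis.baseChange_apply, Matrix.toLinAlgEquiv_self]
  refine Finset.sum_congr rfl fun i _ => ?_
  rw [Module.Basis.baseChange_apply, TensorProduct.smul_tmul', smul_eq_mul, _root_.mul_one, Matrix.of_apply]

/-- The rational module given by a multiplicative matrix of functions. -/
def ofMatrix : VecGrp.GMod G (J → k) where
  ρ B _ _ :=
    { toFun := fun g => LinearEquiv.ofLinear (matEnd C g) (matEnd C g⁻¹)
        (by rw [← Module.End.mul_eq_comp, matEnd, matEnd, ← map_mul, ← (mat_mul_eq C hmul hone B).1, mul_inv_cancel,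
          (mat_mul_eq C hmul hone B).2, map_one]; rfl)
        (by rw [← Module.End.mul_eq_comp, matEnd, matEnd, ← map_mul, ← (mat_mul_eq C hmul hone B).1, inv_mul_cancel,
          (mat_mul_eq C hmul hone B).2, map_one]; rfl)
      map_one' := LinearEquiv.ext fun x => by
        show matEnd C 1 x = x
        rw [matEnd, (mat_mul_eq C hmul hone B).2, map_one]
        rfl
      map_mul' := fun g h => LinearEquiv.ext fun x => by
        show matEnd C (g * h) x = matEnd C g (matEnd C h x)
        rw [matEnd, (mat_mul_eq C hmul hone B).1, map_mul]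
        rfl }
  naturality {B B'} _ _ _ _ φ g x := by
    show VecGrp.Wmap φ (matEnd C g x) = matEnd C (VecGrp.ptMap φ ≫ g) (VecGrp.Wmap φ x)
    induction x using TensorProduct.induction_on with
    | zero => simp
    | add x y hx hy => simp only [map_add, hx, hy]
    | tmul b m =>
      rw [VecGrp.Wmap_tmul, ← (Pi.basisFun k J).sum_repr m]
      simp only [TensorProduct.tmul_sum, TensorProduct.tmul_smul, map_sum]
      refine Finset.sum_congr rfl fun j _ => ?_
      rw [LinearMap.map_smul_of_tower, map_smul, LinearMap.map_smul_of_tower,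
        show b ⊗ₜ[k] Pi.basisFun k J j = b • ((1 : B) ⊗ₜ[k] Pi.basisFun k J j) by
          rw [TensorProduct.smul_tmul', smul_eq_mul, _root_.mul_one],
        show φ b ⊗ₜ[k] Pi.basisFun k J j = φ b • ((1 : B') ⊗ₜ[k] Pi.basisFun k J j) by
          rw [TensorProduct.smul_tmul', smul_eq_mul, _root_.mul_one],
        map_smul (matEnd C g), map_smul (matEnd C (VecGrp.ptMap φ ≫ g)), VecGrp.Wmap_smul, matEnd_apply, matEnd_apply, map_sum]
      simp only [VecGrp.Wmap_tmul, val_ptMap, AlgHom.comp_apply]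

theorem ofMatrix_one_tmul (B : Type u) [CommRing B] [Algebra k B] (g : VecGrp.pt k B ⟶ G) (v : J → k) :
    (ofMatrix C hmul hone).ρ B g ((1 : B) ⊗ₜ[k] v) = ∑ i, (∑ j, v j • val g (C i j)) ⊗ₜ[k] Pi.basisFun k J i := by
  show matEnd C g _ = _
  conv_lhs => rw [← (Pi.basisFun k J).sum_repr v, TensorProduct.tmul_sum, map_sum]
  simp only [TensorProduct.tmul_smul, LinearMap.map_smul_of_tower, matEnd_apply, Pi.basisFun_repr]
  simp only [Finset.smul_sum, TensorProduct.smul_tmul']
  rw [Finset.sum_comm]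
  simp only [TensorProduct.sum_tmul]

theorem ofMatrix_fixed_iff (B : Type u) [CommRing B] [Algebra k B] (g : VecGrp.pt k B ⟶ G) (v : J → k) :
    (ofMatrix C hmul hone).ρ B g ((1 : B) ⊗ₜ[k] v) = (1 : B) ⊗ₜ[k] v ↔
      ∀ i, ∑ j, v j • val g (C i j) = algebraMap k B (v i) := by
  have hv : (1 : B) ⊗ₜ[k] v = ∑ i, algebraMap k B (v i) ⊗ₜ[k] Pi.basisFun k J i := by
    conv_lhs => rw [← (Pi.basisFun k J).sum_repr v, TensorProduct.tmul_sum]
    simp only [TensorProduct.tmul_smul, TensorProduct.smul_tmul', Pi.basisFun_repr, Algebra.algebraMap_eq_smul_one]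
  rw [ofMatrix_one_tmul, hv]
  constructor
  · intro h i
    have := congrArg (ctr (LinearMap.proj i : (J → k) →ₗ[k] k)) h
    simpa [map_sum, ctr_tmul, Pi.single_apply] using this
  · intro h
    simp only [h]

end ofMatrix

/-- Over an algebraically closed field a vector fixed by all rational points of a reduced group is fixed. -/
theorem fixed_of_points [IsAlgClosed k] {H : Over (Spec (CommRingCat.of k))} [GrpObj H] [IsAffine H.left]
    [IsReduced H.left] [LocallyOfFiniteType H.hom] (i : H ⟶ G) {M : Type u} [AddCommGroup M] [Module k M]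
    (ρ : VecGrp.GMod G M) (a : M)
    (ha : ∀ h : VecGrp.pt k k ⟶ H, ρ.ρ k (h ≫ i) ((1 : k) ⊗ₜ[k] a) = (1 : k) ⊗ₜ[k] a) :
    ρ.ρ Γ(H.left, ⊤) (uPt H ≫ i) ((1 : Γ(H.left, ⊤)) ⊗ₜ[k] a) = (1 : Γ(H.left, ⊤)) ⊗ₜ[k] a := by
  haveI : Algebra.FiniteType k Γ(H.left, ⊤) := by
    have h : (Scheme.Hom.appTop H.hom).hom.FiniteType :=
      HasRingHomProperty.appTop (P := @LocallyOfFiniteType) _ inferInstance
    exact h.comp (RingHom.FiniteType.of_surjective _
      (Scheme.ΓSpecIso (CommRingCat.of k)).symm.commRingCatIsoToRingEquiv.surjective)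
  refine eq_of_ctr_eq fun ξ => sub_eq_zero.1 ?_
  by_contra hne
  obtain ⟨χ, hχ⟩ := UnitsRos.exists_point_ne_zero (k := k) hne
  refine hχ ?_
  rw [map_sub, ctr_Wmap, ctr_Wmap, ρ.naturality, VecGrp.Wmap_tmul, map_one, ← Category.assoc,
    ha (VecGrp.ptMap χ ≫ uPt H), sub_self]

end Groth.Agent.InvRing21
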