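import Groth.Agent.Lib.InvRing21.Semi
import Groth.Agent.Lib.InvRing21.OpenImage
import Groth.Agent.S11188

/-!
# Semi-invariants of an observable subgroup can be inverted
-/

set_option autoImplicit false
set_option linter.style.haveILetI false
set_option backward.isDefEq.respectTransparency.types false
universe u

open CategoryTheory MonoidalCategory CartesianMonoidalCategory MonObj AlgebraicGeometry
open scoped TensorProduct

noncomputable section

namespace Groth.Agent.InvRing21

variable {k : Type u} [Field k]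

attribute [local instance] gamAlg

theorem ptHom_injective (B : Type u) [CommRing B] [Algebra k B] : Function.Injective (ptHom (k := k) B) :=
  (Scheme.ΓSpecIso (CommRingCat.of B)).commRingCatIsoToRingEquiv.injective

theorem mem_radical_of_points [IsAlgClosed k] {A : Type u} [CommRing A] [Algebra k A] [Algebra.FiniteType k A]
    {I : Ideal A} {F : A} (h : ∀ χ : A →ₐ[k] k, (∀ c ∈ I, χ c = 0) → χ F = 0) : F ∈ I.radical := by
  by_contra hF
  let J := I.radical
  have : IsReduced (A ⧸ J) := (Ideal.isRadical_iff_quotient_reduced _).1 (Ideal.radical_isRadical _)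
  have : Algebra.FiniteType k (A ⧸ J) :=
    Algebra.FiniteType.of_surjective (Ideal.Quotient.mkₐ k J) Ideal.Quotient.mk_surjective
  obtain ⟨χ, hχ⟩ := UnitsRos.exists_point_ne_zero (k := k) (b := Ideal.Quotient.mk J F)
    fun he => hF (Ideal.Quotient.eq_zero_iff_mem.1 he)
  refine hχ (h (χ.comp (Ideal.Quotient.mkₐ k J)) fun c hc => ?_)
  show χ (Ideal.Quotient.mk J c) = 0
  rw [Ideal.Quotient.eq_zero_iff_mem.2 (Ideal.le_radical hc), map_zero]

variable [IsAlgClosed k] {G H : Over (Spec (CommRingCat.of k))} [GrpObj G] [IsAffine G.left] [Smooth G.hom]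
  [GrpObj H] [Smooth H.hom] {i : H ⟶ G} [IsMonHom i] [IsClosedImmersion i.left]

/-- Off a closed subset stable under an observable subgroup some invariant function is nonzero. -/
theorem exists_invariant_radical (hobs : AGF.IsObservableIn k i) (I : Ideal Γ(G.left, ⊤))
    (hI : ∀ x : VecGrp.pt k k ⟶ G, (∀ c ∈ I, val x c = 0) →
      ∀ (h : VecGrp.pt k k ⟶ H), ∀ c ∈ I, val (x * (h ≫ i)) c = 0)
    {c : Γ(G.left, ⊤)} (hcI : c ∈ I) (x₀ : VecGrp.pt k k ⟶ G) (h1 : val x₀ c ≠ 0) :
    ∃ F, Semi i 1 F ∧ val x₀ F ≠ 0 ∧ F ∈ I.radical := by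
  classical
  haveI : IsAffine H.left := isAffine_of_isAffineHom i.left
  haveI := OrbitTop19.isReduced_of_smooth G.hom
  haveI := finiteType_gam G
  obtain ⟨s, hs, hsep⟩ := ((Groth.Agent.S11188.result k G H i).out 0 2).1 hobs
  let R := Algebra.adjoin k (s : Set Γ(G.left, ⊤))
  have hRinv : ∀ r : Γ(G.left, ⊤), r ∈ R → ∀ (x : VecGrp.pt k k ⟶ G) (h : VecGrp.pt k k ⟶ H),
      val (x * (h ≫ i)) r = val x r := fun r hr x h => by
    refine AlgHom.congr_fun (show (val (x * (h ≫ i))).comp R.val = (val x).comp R.val from ?_) ⟨r, hr⟩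
    refine AlgHom.adjoin_ext fun a ha => ?_
    exact (semi_one_iff.2 (hs a ha) x h).trans (_root_.one_mul _)
  haveI : Nontrivial Γ(G.left, ⊤) := ⟨⟨c, 0, fun e => h1 (by rw [e, map_zero])⟩⟩
  obtain ⟨f, -, hf0, hopen⟩ := exists_open_image R (Subalgebra.fg_adjoin_finset s)
  obtain ⟨g, hg⟩ := exists_val_ne_zero hf0
  obtain ⟨t, htR, htg, ht⟩ := hopen ((InvRing21.lTr (x₀ * g⁻¹)).left.appTop c) (val g) hg
    (by rwa [val_lTr, inv_mul_cancel_right])
  refine ⟨(InvRing21.lTr (g * x₀⁻¹)).left.appTop t, fun x h => ?_, ?_, mem_radical_of_points (k := k) fun χ hχ => ?_⟩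
  · rw [val_lTr, val_lTr, ← mul_assoc (g * x₀⁻¹) x (h ≫ i), hRinv t htR, Pi.one_apply, _root_.one_mul]
  · rwa [val_lTr, inv_mul_cancel_right]
  let x : VecGrp.pt k k ⟶ G := VecGrp.ptMap χ ≫ uPt G
  have hx : val x = χ := by rw [val_ptMap, val_uPt, AlgHom.comp_id]
  rw [← hx, val_lTr]
  by_contra hne
  obtain ⟨χ'', hχa, hχR⟩ := ht (val (g * x₀⁻¹ * x)) hne
  let y : VecGrp.pt k k ⟶ G := VecGrp.ptMap χ'' ≫ uPt G
  have hy : val y = χ'' := by rw [val_ptMap, val_uPt, AlgHom.comp_id]
  obtain ⟨h, hh⟩ := hsep (g * x₀⁻¹ * x) y fun b hb => ptHom_injective k (by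
    show val (g * x₀⁻¹ * x) b = val y b
    rw [hy, hχR b (Algebra.subset_adjoin hb)])
  refine hχa ?_
  rw [← hy, val_lTr, hh, show (x₀ * g⁻¹) * (g * x₀⁻¹ * x * (h ≫ i)) = x * (h ≫ i) by group]
  exact hI x (by rw [hx]; exact hχ) h c hcI

/-- An observable subgroup has, with each semi-invariant, one of the inverse weight. -/
theorem Semi.exists_inv (hobs : AGF.IsObservableIn k i) {l : (VecGrp.pt k k ⟶ H) → k} {c : Γ(G.left, ⊤)}
    (hc : Semi i l c) (h1 : val (1 : VecGrp.pt k k ⟶ G) c ≠ 0) :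
    ∃ d, Semi i l⁻¹ d ∧ val (1 : VecGrp.pt k k ⟶ G) d ≠ 0 := by
  obtain ⟨F, hF, hF1, hFrad⟩ := exists_invariant_radical hobs (Ideal.span {c}) (fun x hx h e he => by
    obtain ⟨e', rfl⟩ := Ideal.mem_span_singleton'.1 he
    rw [map_mul, hc, hx c (Ideal.mem_span_singleton_self c), mul_zero, mul_zero])
    (Ideal.mem_span_singleton_self c) 1 h1
  obtain ⟨N, hN⟩ := hFrad
  obtain ⟨c', hc'⟩ := Ideal.mem_span_singleton'.1 hN
  have hval : ∀ x : VecGrp.pt k k ⟶ G, val x c' * val x c = val x F ^ N := fun x => by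
    rw [← map_mul, hc', map_pow]
  have hFinv : ∀ (x : VecGrp.pt k k ⟶ G) (h : VecGrp.pt k k ⟶ H), val (x * (h ≫ i)) F = val x F :=
    fun x h => (hF x h).trans (_root_.one_mul _)
  refine ⟨F * c', fun x h => ?_, ?_⟩
  · rw [map_mul, map_mul, hFinv, Pi.inv_apply]
    by_cases hx : val x c = 0
    · have : val x F = 0 := by
        refine eq_zero_of_pow_eq_zero (n := N) ?_
        rw [← hval, hx, mul_zero]
      rw [this]; simp
    · have e := hval (x * (h ≫ i))
      rw [hFinv, ← hval x, hc] at e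
      have hl := hc.ne_zero h1 h
      have : val (x * (h ≫ i)) c' = (l h)⁻¹ * val x c' := by
        field_simp
        exact mul_right_cancel₀ hx (by linear_combination e)
      rw [this]
      ring
  · rw [map_mul]
    refine mul_ne_zero hF1 fun h0 => ?_
    have := hval 1
    rw [h0, zero_mul] at this
    exact pow_ne_zero N hF1 this.symm

end Groth.Agent.InvRing21
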