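import Groth.Agent.Lib.InvRing21.Extend
import Groth.Agent.Lib.InvRing21.Inverse
import Groth.Agent.Lib.Chevalley.Basic

/-!
# A character whose semi-invariants cut out a closed subgroup; extension of modules
-/

set_option autoImplicit false
set_option linter.style.haveILetI false
set_option backward.isDefEq.respectTransparency.types false
universe u

open CategoryTheory MonoidalCategory CartesianMonoidalCategory MonObj AlgebraicGeometry
open scoped TensorProduct

noncomputable section

namespace Groth.Agent.InvRing21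

variable {k : Type u} [Field k]

attribute [local instance] gamAlg

variable {G H : Over (Spec (CommRingCat.of k))} [GrpObj G] [GrpObj H]

/-- A stable basis of functions adapted to the functions vanishing on the subgroup. -/
structure Adapted (i : H ⟶ G) (d m : ℕ) where
  /-- the functions -/
  E : Fin d ⊕ Fin m → Γ(G.left, ⊤)
  /-- the matrix -/
  Y : Matrix (Fin d ⊕ Fin m) (Fin d ⊕ Fin m) Γ(G.left, ⊤)
  mul : ∀ (x g : VecGrp.pt k k ⟶ G) b, val (x * g) (E b) = ∑ a, val g (Y a b) * val x (E a)
  ker : ∀ a (h : VecGrp.pt k k ⟶ H), val (h ≫ i) (E (Sum.inl a)) = 0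
  indep : ∀ γ : Fin m → k, (∀ h : VecGrp.pt k k ⟶ H, ∑ j, γ j * val (h ≫ i) (E (Sum.inr j)) = 0) → γ = 0
  linIndep : ∀ c : Fin d ⊕ Fin m → k, (∀ x : VecGrp.pt k k ⟶ G, ∑ a, c a * val x (E a) = 0) → c = 0

theorem exists_adapted [IsAlgClosed k] [IsAffine G.left] [Smooth G.hom] [IsAffine H.left] [Smooth H.hom] (i : H ⟶ G)
    (s : Finset Γ(G.left, ⊤)) :
    ∃ (d m : ℕ) (A : Adapted i d m), ∀ f ∈ s, f ∈ Submodule.span k (Set.range A.E) := by
  classical
  obtain ⟨W, hfin, hsW, hW⟩ := exists_stable_span (regular G) s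
  let K : Submodule k W := LinearMap.ker ((appAlg i).toLinearMap ∘ₗ W.subtype)
  obtain ⟨C, hC⟩ := Submodule.exists_isCompl K
  haveI : Module.Free k K := Module.Free.of_divisionRing (K := k) (V := K)
  haveI : Module.Free k C := Module.Free.of_divisionRing (K := k) (V := C)
  let e : Module.Basis (Fin (Module.finrank k K) ⊕ Fin (Module.finrank k C)) k W :=
    ((Module.finBasis k K).prod (Module.finBasis k C)).map (Submodule.prodEquivOfIsCompl K C hC)
  obtain ⟨ξ, hξ, hexp, hE⟩ := exists_coords (regular G) hW e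
  have hel : ∀ a, e (Sum.inl a) = (Module.finBasis k K a : W) := fun a => by simp [e]
  have her : ∀ a, e (Sum.inr a) = (Module.finBasis k C a : W) := fun a => by simp [e]
  refine ⟨_, _, ⟨fun a => e a, fun a b => coef (regular G) (ξ a) (e b), fun x g b => val_mul_coords e hE x g b,
    fun a h => ?_, fun γ hγ => ?_, fun c hc => ?_⟩, fun f hf => ?_⟩
  · have h0 : appAlg i (e (Sum.inl a) : Γ(G.left, ⊤)) = 0 := by
      rw [hel]
      exact (Module.finBasis k K a).2
    rw [← appTop_val, ← appAlg_apply, h0, map_zero]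
  · let w : C := ∑ j, γ j • Module.finBasis k C j
    have hwK : (w : W) ∈ K := by
      show appAlg i ((w : W) : Γ(G.left, ⊤)) = 0
      refine ext_val fun h => ?_
      rw [map_zero, appAlg_apply, appTop_val]
      simp only [w, Submodule.coe_sum, Submodule.coe_smul, map_sum, map_smul, smul_eq_mul, ← her]
      exact hγ h
    have hw : w = 0 := Subtype.ext ((Submodule.disjoint_def.1 hC.disjoint) _ hwK w.2)
    funext j
    have := congrArg (fun z => (Module.finBasis k C).repr z j) hw
    rw [show w = (Module.finBasis k C).equivFun.symm γ from ((Module.finBasis k C).equivFun_symm_apply γ).symm] at this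
    simpa [Module.Basis.equivFun] using this
  · funext b
    have h0 : ∑ a, c a • (e a : Γ(G.left, ⊤)) = 0 := ext_val fun x => by
      simpa only [map_sum, map_smul, smul_eq_mul, map_zero] using hc x
    have := congrArg (ξ b) h0
    rcases b with b | b <;> simpa [hξ, Fintype.sum_sum_type] using this
  · rw [Submodule.mem_span_range_iff_exists_fun]
    exact ⟨fun a => ξ a f, (hexp f (hsW f hf)).symm⟩

variable {i : H ⟶ G} {d m : ℕ} (A : Adapted i d m)

namespace Adapted

/-- The matrix at a rational point. -/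
def at' (g : VecGrp.pt k k ⟶ G) : Matrix (Fin d ⊕ Fin m) (Fin d ⊕ Fin m) k := A.Y.map (val g)

theorem mul_at' (g g' : VecGrp.pt k k ⟶ G) : A.at' (g * g') = A.at' g * A.at' g' := by
  ext a b
  let c : Fin d ⊕ Fin m → k := fun a => A.at' (g * g') a b - (A.at' g * A.at' g') a b
  refine sub_eq_zero.1 (congrFun (A.linIndep c fun x => ?_) a)
  simp only [c, sub_mul, Finset.sum_sub_distrib, sub_eq_zero]
  refine Eq.trans (A.mul x (g * g') b).symm ?_
  rw [← mul_assoc x g g', A.mul]
  simp only [A.mul x g, at', Matrix.mul_apply, Matrix.map_apply, Finset.mul_sum, Finset.sum_mul]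
  rw [Finset.sum_comm]
  exact Finset.sum_congr rfl fun _ _ => Finset.sum_congr rfl fun _ _ => by ring

theorem at'_one : A.at' 1 = 1 := by
  ext a b
  let c : Fin d ⊕ Fin m → k := fun a => A.at' 1 a b - (1 : Matrix _ _ k) a b
  refine sub_eq_zero.1 (congrFun (A.linIndep c fun x => ?_) a)
  simp only [c, sub_mul, Finset.sum_sub_distrib, sub_eq_zero]
  refine Eq.trans (A.mul x 1 b).symm ?_
  rw [_root_.mul_one x]
  simp [Matrix.one_apply]

variable [IsMonHom i]

theorem block (h : VecGrp.pt k k ⟶ H) (j : Fin m) (a : Fin d) : A.at' (h ≫ i) (Sum.inr j) (Sum.inl a) = 0 := by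
  refine congrFun (A.indep (fun j => A.at' (h ≫ i) (Sum.inr j) (Sum.inl a)) fun y => ?_) j
  have := A.mul (y ≫ i) (h ≫ i) (Sum.inl a)
  rw [← MonObj.mul_comp, A.ker, Fintype.sum_sum_type] at this
  simpa [A.ker, at'] using this.symm

/-- The block acting on the functions vanishing on the subgroup. -/
def blockT : Matrix (Fin d) (Fin d) Γ(G.left, ⊤) := A.Y.submatrix Sum.inl Sum.inl

theorem val_det_blockT (g : VecGrp.pt k k ⟶ G) : val g A.blockT.det = ((A.at' g).submatrix Sum.inl Sum.inl).det := by
  rw [AlgHom.map_det]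
  rfl

theorem det_submatrix_mul (x : VecGrp.pt k k ⟶ G) (h : VecGrp.pt k k ⟶ H) (I : Fin d → Fin d ⊕ Fin m) :
    ((A.at' (x * (h ≫ i))).submatrix I Sum.inl).det =
      ((A.at' x).submatrix I Sum.inl).det * ((A.at' (h ≫ i)).submatrix Sum.inl Sum.inl).det := by
  rw [mul_at', ← Matrix.det_mul]
  congr 1
  ext a b
  simp [Matrix.mul_apply, Fintype.sum_sum_type, A.block h]

theorem exists_char_det [IsAlgClosed k] [IsAffine H.left] [Smooth H.hom] :
    ∃ χ : H ⟶ Red.Gm (Spec (CommRingCat.of k)), IsMonHom χ ∧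
      ∀ h, val h (Red.gmFn χ) = ((A.at' (h ≫ i)).submatrix Sum.inl Sum.inl).det := by
  obtain ⟨χ, hχ, hu⟩ := exists_char (i.left.appTop A.blockT.det) (by
    rw [appTop_val, MonObj.one_comp i, val_det_blockT, at'_one, Matrix.submatrix_one _ Sum.inl_injective, Matrix.det_one])
    fun g h => by
      simp only [appTop_val, val_det_blockT, MonObj.mul_comp]
      exact A.det_submatrix_mul (g ≫ i) h Sum.inl
  exact ⟨χ, hχ, fun h => by rw [hu, appTop_val, val_det_blockT]⟩

end Adapted

variable [IsAlgClosed k] [IsAffine G.left] [Smooth G.hom] [Smooth H.hom] [IsClosedImmersion i.left] [IsMonHom i]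

omit [IsAlgClosed k] [Smooth G.hom] [Smooth H.hom] [GrpObj G] [GrpObj H] [IsMonHom i] in
theorem exists_lift_pt (g : VecGrp.pt k k ⟶ G) (h : ∀ f, appAlg i f = 0 → val g f = 0) :
    ∃ y : VecGrp.pt k k ⟶ H, y ≫ i = g := by
  haveI : IsAffine H.left := isAffine_of_isAffineHom i.left
  have hs : Function.Surjective (appAlg i) :=
    (IsClosedImmersion.isAffine_surjective_of_isAffine i.left).2
  let ψ : Γ(H.left, ⊤) →ₐ[k] k := AlgHom.liftOfSurjective (appAlg i) hs (val g) h
  refine ⟨VecGrp.ptMap ψ ≫ uPt H, ?_⟩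
  rw [Category.assoc, ← ptMap_appAlg, ← Category.assoc, ptMap_comp,
    show ψ.comp (appAlg i) = val g from AlgHom.liftOfSurjective_comp _ _ _ _, ptMap_val]

/-- Some character, occurring on functions, has semi-invariants cutting out the subgroup. -/
theorem exists_line :
    ∃ (χ : H ⟶ Red.Gm (Spec (CommRingCat.of k))) (P : Type) (c : P → Γ(G.left, ⊤)) (p₀ : P), IsMonHom χ ∧
      (∀ p, Semi i (fun h => val h (Red.gmFn χ)) (c p)) ∧ val (1 : VecGrp.pt k k ⟶ G) (c p₀) = 1 ∧
      (∀ g : VecGrp.pt k k ⟶ G, val g (c p₀) ≠ 0 →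
        (∀ p, val g (c p) = val (1 : VecGrp.pt k k ⟶ G) (c p) * val g (c p₀)) →
        ∃ y : VecGrp.pt k k ⟶ H, y ≫ i = g) ∧
      ∀ (x g : VecGrp.pt k k ⟶ G) (l : k), (∀ p, val (x * g) (c p) = l * val x (c p)) →
        ∀ p, val g (c p) = l * val (1 : VecGrp.pt k k ⟶ G) (c p) := by
  classical
  haveI : IsAffine H.left := isAffine_of_isAffineHom i.left
  haveI := finiteType_gam G
  haveI : IsNoetherianRing Γ(G.left, ⊤) := Algebra.FiniteType.isNoetherianRing k _
  obtain ⟨s, hs⟩ : (RingHom.ker (appAlg i)).FG := IsNoetherian.noetherian _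
  obtain ⟨d, m, A, hA⟩ := exists_adapted i s
  obtain ⟨χ, hχ, hu⟩ := A.exists_char_det
  refine ⟨χ, Fin d → Fin d ⊕ Fin m, fun I => (A.Y.submatrix I Sum.inl).det, Sum.inl, hχ, fun I x h => ?_, ?_,
    fun g hg0 hg => ?_, fun x g l hl I => ?_⟩
  rotate_left 3
  · have hc : ∀ (z : VecGrp.pt k k ⟶ G) J, val z (A.Y.submatrix J Sum.inl).det = Chevalley.moved (Chevalley.kpow (A.at' z) d)
        (Chevalley.wedge (k := k)) J := fun z J => by
      rw [Chevalley.moved_kpow_wedge, AlgHom.map_det]
      rfl
    have key : ∀ (z : VecGrp.pt k k ⟶ G) J, val (x⁻¹ * z) (A.Y.submatrix J Sum.inl).det =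
        ∑ J', Chevalley.kpow (A.at' x⁻¹) d J J' * val z (A.Y.submatrix J' Sum.inl).det := fun z J => by
      simp only [hc]
      rw [A.mul_at', Chevalley.kpow_mul, Chevalley.moved_mul]
    have h1 := key (x * g) I
    have h2 := key x I
    rw [inv_mul_cancel_left] at h1
    rw [inv_mul_cancel] at h2
    rw [h1, h2, Finset.mul_sum]
    exact Finset.sum_congr rfl fun J' _ => by rw [hl]; ring
  · simp only [AlgHom.map_det, hu]
    rw [mul_comm]
    exact A.det_submatrix_mul x h I
  · rw [AlgHom.map_det]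
    show ((A.at' 1).submatrix Sum.inl Sum.inl).det = 1
    rw [Adapted.at'_one, Matrix.submatrix_one _ Sum.inl_injective, Matrix.det_one]
  · have hblock : ∀ (j : Fin m) (a : Fin d), A.at' g (Sum.inr j) (Sum.inl a) = 0 := by
      refine fun j a => Chevalley.block_of_moved (k := k) (Ne.isUnit hg0) (fun I => ?_) j a
      have := hg I
      rw [show val (1 : VecGrp.pt k k ⟶ G) (A.Y.submatrix I Sum.inl).det = Chevalley.wedge (k := k) I by
        rw [AlgHom.map_det]
        show ((A.at' 1).submatrix I Sum.inl).det = _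
        rw [Adapted.at'_one]
        rfl] at this
      rw [Algebra.algebraMap_self_apply, ← this, AlgHom.map_det]
      rfl
    refine exists_lift_pt g fun f hf => ?_
    have hf' : f ∈ RingHom.ker (appAlg i) := hf
    rw [← hs] at hf'
    refine (Ideal.span_le.2 fun b hb => ?_ : Ideal.span (s : Set Γ(G.left, ⊤)) ≤ RingHom.ker (val g)) hf'
    have hb0 : appAlg i b = 0 := by
      have : b ∈ RingHom.ker (appAlg i) := by rw [← hs]; exact Ideal.subset_span hb
      exact this
    obtain ⟨γ, hγ⟩ := (Submodule.mem_span_range_iff_exists_fun k).1 (hA b hb)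
    have hγr : (fun j => γ (Sum.inr j)) = 0 := A.indep _ fun h => by
      have := congrArg (fun z => val h z) hb0
      simp only [map_zero, appAlg_apply, appTop_val, ← hγ, map_sum, map_add, map_smul, Fintype.sum_sum_type, A.ker,
        smul_eq_mul, mul_zero, Finset.sum_const_zero, zero_add] at this
      exact this
    show val g b = 0
    rw [← hγ, map_sum, Fintype.sum_sum_type]
    have hker1 : ∀ a, val (1 : VecGrp.pt k k ⟶ G) (A.E (Sum.inl a)) = 0 := fun a => by
      rw [← MonObj.one_comp i]; exact A.ker a 1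
    simp only [map_smul, smul_eq_mul, show ∀ j, γ (Sum.inr j) = 0 from congrFun hγr, zero_mul,
      Finset.sum_const_zero, add_zero]
    refine Finset.sum_eq_zero fun a _ => ?_
    have := A.mul 1 g (Sum.inl a)
    rw [_root_.one_mul g, Fintype.sum_sum_type] at this
    simp only [hker1, mul_zero, Finset.sum_const_zero, zero_add,
      show ∀ j, val g (A.Y (Sum.inr j) (Sum.inl a)) = 0 from fun j => hblock j a, zero_mul] at this
    rw [this, mul_zero]

/-- Observability follows when occurring characters have occurring inverses. -/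
theorem observable_of_inverse
    (hinv : ∀ χ : H ⟶ Red.Gm (Spec (CommRingCat.of k)), IsMonHom χ → ∀ f,
      Semi i (fun h => val h (Red.gmFn χ)) f → val (1 : VecGrp.pt k k ⟶ G) f = 1 →
      ∃ d, Semi i (fun h => (val h (Red.gmFn χ))⁻¹) d ∧ val (1 : VecGrp.pt k k ⟶ G) d ≠ 0) :
    AGF.IsObservableIn k i := by
  haveI : IsAffine H.left := isAffine_of_isAffineHom i.left
  obtain ⟨χ, P, c, p₀, hχ, hc, hc1, hline, -⟩ := exists_line (i := i)
  obtain ⟨d, hd, hd1⟩ := hinv χ hχ _ (hc p₀) hc1
  intro g hg
  have key : ∀ p, val g (c p) * val g d =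
      val (1 : VecGrp.pt k k ⟶ G) (c p) * val (1 : VecGrp.pt k k ⟶ G) d := fun p => by
    have h1 : AGF.IsRTransInv i (c p * d) := semi_one_iff.1 (((hc p).mul hd).congr fun h => by
      have h0 := (hc p₀).ne_zero (by rw [hc1]; exact one_ne_zero) h
      simp [mul_inv_cancel₀ h0])
    have := (isRTransInv_pt_iff_val g _).1 (hg _ h1) 1
    rwa [_root_.one_mul g, map_mul, map_mul] at this
  have h0 := key p₀
  rw [hc1, _root_.one_mul] at h0
  have hg0 : val g (c p₀) ≠ 0 := fun h => hd1 (by rw [← h0, h, zero_mul])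
  refine hline g hg0 fun p => ?_
  have := key p
  rw [← h0, ← _root_.mul_assoc] at this
  refine mul_right_cancel₀ (fun h => hd1 (by rw [← h0, h, mul_zero])) this

/-- Every module of an observable subgroup extends. -/
theorem extendsAlong_of_observable (hobs : AGF.IsObservableIn k i) {V : Type u} [AddCommGroup V] [Module k V]
    [Module.Finite k V] (σ : VecGrp.GMod H V) : σ.ExtendsAlong i := by
  classical
  haveI : IsAffine H.left := isAffine_of_isAffineHom i.left
  have hs : Function.Surjective (appAlg i) := (IsClosedImmersion.isAffine_surjective_of_isAffine i.left).2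
  let bV := Module.finBasis k V
  choose F hF using fun q : Fin (Module.finrank k V) × Fin (Module.finrank k V) => hs (coef σ (bV.coord q.1) (bV q.2))
  obtain ⟨d, m, A, hA⟩ := exists_adapted i (Finset.univ.image F)
  choose γ' hγ' using fun q => (Submodule.mem_span_range_iff_exists_fun k).1
    (hA (F q) (Finset.mem_image_of_mem F (Finset.mem_univ q)))
  obtain ⟨χ, hχ, hu⟩ := A.exists_char_det
  have hc0 : Semi i (fun h => val h (Red.gmFn χ)) A.blockT.det := fun x h => by
    simp only [AlgHom.map_det, hu]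
    rw [mul_comm]
    exact A.det_submatrix_mul x h Sum.inl
  have hc01 : val (1 : VecGrp.pt k k ⟶ G) A.blockT.det ≠ 0 := by
    rw [A.val_det_blockT, Adapted.at'_one, Matrix.submatrix_one _ Sum.inl_injective, Matrix.det_one]
    exact one_ne_zero
  obtain ⟨δ, hδ, hδ1⟩ := hc0.exists_inv hobs hc01
  -- the coordinates of the coefficient functions on the complement
  let γ : Fin (Module.finrank k V) → Fin m → V →ₗ[k] k := fun a j =>
    ∑ b, γ' (a, b) (Sum.inr j) • bV.coord b
  have hγ : ∀ a (v : V) (y : VecGrp.pt k k ⟶ H),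
      ∑ j, γ a j v * val (y ≫ i) (A.E (Sum.inr j)) = bV.coord a (ptAct σ y v) := by
    intro a v y
    have hcoord : bV.coord a (ptAct σ y v) = ctr (bV.coord a) (σ.ρ k y (1 ⊗ₜ[k] v)) := by
      rw [ptAct]
      generalize σ.ρ k y (1 ⊗ₜ[k] v) = z
      induction z using TensorProduct.induction_on with
      | zero => simp
      | tmul c w => rw [TensorProduct.lid_tmul, map_smul, ctr_tmul, smul_eq_mul, smul_eq_mul, mul_comm]
      | add z w hz hw => simp only [map_add, hz, hw]
    conv_rhs => rw [hcoord, ← bV.sum_repr v, TensorProduct.tmul_sum, map_sum, map_sum]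
    simp only [γ, LinearMap.sum_apply, LinearMap.smul_apply, Finset.sum_mul]
    rw [Finset.sum_comm]
    refine Finset.sum_congr rfl fun b _ => ?_
    rw [TensorProduct.tmul_smul, map_smul, map_smul, ctr_rho, ← hF (a, b), appAlg_apply, appTop_val,
      ← hγ' (a, b), map_sum, Fintype.sum_sum_type]
    simp only [map_smul, smul_eq_mul, A.ker, mul_zero, Finset.sum_const_zero, zero_add, Finset.mul_sum,
      Module.Basis.coord_apply]
    exact Finset.sum_congr rfl fun j _ => by ring
  have hγh : ∀ a l (h : VecGrp.pt k k ⟶ H) (v : V),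
      γ a l (ptAct σ h v) = ∑ j, A.at' (h ≫ i) (Sum.inr l) (Sum.inr j) * γ a j v := by
    intro a l h v
    refine sub_eq_zero.1 (congrFun (A.indep (fun l => γ a l (ptAct σ h v) -
      ∑ j, A.at' (h ≫ i) (Sum.inr l) (Sum.inr j) * γ a j v) fun y => ?_) l)
    have hact : ptAct σ y (ptAct σ h v) = ptAct σ (y * h) v := by
      apply (TensorProduct.lid k V).symm.injective
      simp only [ptAct, LinearEquiv.symm_apply_apply, rho_mul]
      rw [← TensorProduct.lid_symm_apply, LinearEquiv.symm_apply_apply]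
    simp only [sub_mul, Finset.sum_sub_distrib, hγ, hact, sub_eq_zero]
    rw [← hγ a v (y * h), MonObj.mul_comp]
    simp only [A.mul, Fintype.sum_sum_type, A.ker, mul_zero, Finset.sum_const_zero, zero_add, Finset.mul_sum,
      Finset.sum_mul]
    rw [Finset.sum_comm]
    exact Finset.sum_congr rfl fun _ _ => Finset.sum_congr rfl fun _ _ => by simp [Adapted.at']; ring
  let cols : Fin m → Fin d ⊕ Unit → Fin d ⊕ Fin m := fun j => Sum.elim Sum.inl fun _ => Sum.inr j
  let D : Fin m → Fin m → Γ(G.left, ⊤) := fun l j => (A.Y.submatrix (cols l) (cols j)).det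
  have hD : ∀ (x : VecGrp.pt k k ⟶ G) (h : VecGrp.pt k k ⟶ H) l j, val (x * (h ≫ i)) (D l j) =
      val h (Red.gmFn χ) * ∑ j', A.at' (h ≫ i) (Sum.inr j') (Sum.inr j) * val x (D l j') := by
    intro x h l j
    let Ah := A.at' (h ≫ i)
    let Ax := A.at' x
    let M : Matrix (Fin d ⊕ Unit) (Fin d ⊕ Unit) k :=
      Matrix.of fun a b => Sum.elim (fun b' => Ax (cols l a) (Sum.inl b'))
        (fun _ => ∑ j', Ah (Sum.inr j') (Sum.inr j) * Ax (cols l a) (Sum.inr j')) b
    let K : Matrix (Fin d ⊕ Unit) (Fin d ⊕ Unit) k :=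
      Matrix.fromBlocks (Ah.submatrix Sum.inl Sum.inl) (Matrix.of fun a _ => Ah (Sum.inl a) (Sum.inr j)) 0 1
    have hprod : (A.at' (x * (h ≫ i))).submatrix (cols l) (cols j) = M * K := by
      rw [A.mul_at']
      ext a (b | b)
      · simp [M, K, Ah, Ax, cols, Matrix.mul_apply, Fintype.sum_sum_type, A.block h]
      · simp [M, K, Ah, Ax, cols, Matrix.mul_apply, Fintype.sum_sum_type, mul_comm]
    have hM : ∀ j', M.updateCol (Sum.inr ()) (fun a => Ax (cols l a) (Sum.inr j')) =
        Ax.submatrix (cols l) (cols j') := by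
      intro j'
      ext a (b | b)
      · simp [M, cols]
      · simp [cols]
    have hMdet : M.det = ∑ j', Ah (Sum.inr j') (Sum.inr j) * val x (D l j') := by
      have h1 : M = M.updateCol (Sum.inr ()) (∑ j', Ah (Sum.inr j') (Sum.inr j) • fun a => Ax (cols l a) (Sum.inr j')) := by
        ext a (b | b)
        · simp
        · simp [M, Finset.sum_apply]
      rw [h1, ← Matrix.cramer_apply, map_sum, Finset.sum_apply]
      refine Finset.sum_congr rfl fun j' _ => ?_
      rw [map_smul, Pi.smul_apply, Matrix.cramer_apply, hM, smul_eq_mul, AlgHom.map_det]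
      rfl
    show val _ (A.Y.submatrix (cols l) (cols j)).det = _
    rw [AlgHom.map_det]
    show ((A.at' (x * (h ≫ i))).submatrix (cols l) (cols j)).det = _
    rw [hprod, Matrix.det_mul, Matrix.det_fromBlocks_zero₂₁, Matrix.det_one, hMdet, hu]
    ring
  let Λ : Fin (Module.finrank k V) × Fin m → V →ₗ[k] Γ(G.left, ⊤) := fun q =>
    ∑ j, (γ q.1 j).smulRight (D q.2 j * δ)
  refine extendsAlong_of_equivariant i σ (P := ULift.{u} (Fin (Module.finrank k V) × Fin m)) (fun q => Λ q.down)
    (fun v hv => ?_) fun q x h v => ?_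
  · refine bV.ext_elem fun a => ?_
    have hγ0 : ∀ l, γ a l v = 0 := fun l => by
      have := congrArg (val (1 : VecGrp.pt k k ⟶ G)) (hv ⟨(a, l)⟩)
      simp only [Λ, LinearMap.sum_apply, LinearMap.smulRight_apply, map_sum, map_smul, map_mul, map_zero,
        smul_eq_mul] at this
      have hD1 : ∀ j, val (1 : VecGrp.pt k k ⟶ G) (D l j) = if l = j then 1 else 0 := by
        intro j
        rw [AlgHom.map_det]
        show ((A.at' 1).submatrix (cols l) (cols j)).det = _
        rw [Adapted.at'_one]
        split_ifs with hlj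
        · subst hlj
          rw [Matrix.submatrix_one _ (by
            rintro (a | a) (b | b) hab <;> simp [cols] at hab ⊢ <;> exact hab), Matrix.det_one]
        · refine Matrix.det_eq_zero_of_row_eq_zero (Sum.inr ()) fun b => ?_
          rcases b with b | b <;> simp [cols, hlj]
      simp only [hD1, ite_mul, _root_.one_mul, zero_mul, mul_ite, mul_zero, Finset.sum_ite_eq, Finset.mem_univ,
        if_true] at this
      exact (mul_eq_zero.1 this).resolve_right hδ1
    have := hγ a v 1
    simp only [hγ0, zero_mul, Finset.sum_const_zero] at this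
    rw [ptAct, map_one] at this
    simpa using this.symm
  · obtain ⟨⟨a, l⟩⟩ := q
    simp only [Λ, LinearMap.sum_apply, LinearMap.smulRight_apply, map_sum, map_smul, smul_eq_mul, map_mul, hD, hγh,
      hδ x h, Finset.sum_mul, Finset.mul_sum, Pi.inv_apply]
    rw [Finset.sum_comm]
    refine Finset.sum_congr rfl fun j _ => Finset.sum_congr rfl fun j' _ => ?_
    field_simp [hc0.ne_zero hc01 h]

end Groth.Agent.InvRing21
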