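import Groth.Agent.Lib.DiagGL.Points
import Mathlib.RingTheory.Smooth.Basic
import Mathlib.RingTheory.RingHom.Smooth
import Mathlib.AlgebraicGeometry.Morphisms.Smooth

/-!
# `GL_n` is smooth and affine
-/

set_option autoImplicit false
set_option linter.style.haveILetI false
universe u

open AlgebraicGeometry CategoryTheory

noncomputable section

namespace Groth.Agent.InvRing21

variable (k : Type u) [CommRing k] (n : ℕ)

theorem formallySmooth_GLn : Algebra.FormallySmooth k (CoordGrp.GLn n k) := by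
  refine Algebra.FormallySmooth.iff_comp_surjective.2 fun {B} _ _ I hI f => ?_
  classical
  choose M hM using fun p : Fin n × Fin n => Ideal.Quotient.mk_surjective (f (CoordGrp.GLn.X p.1 p.2))
  let N : Matrix (Fin n) (Fin n) B := Matrix.of fun i j => M (i, j)
  obtain ⟨d₀, hd₀⟩ := Ideal.Quotient.mk_surjective (f CoordGrp.GLn.Dinv)
  have hmap : (Ideal.Quotient.mk I).mapMatrix N = f.toRingHom.mapMatrix (Matrix.of CoordGrp.GLn.X) :=
    Matrix.ext fun i j => hM (i, j)
  have h1 : N.det * d₀ - 1 ∈ I := by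
    rw [← Ideal.Quotient.eq_zero_iff_mem, map_sub, map_mul, map_one, RingHom.map_det, hmap, ← RingHom.map_det,
      hd₀, sub_eq_zero]
    show f _ * f _ = 1
    rw [← map_mul, show Matrix.det (Matrix.of CoordGrp.GLn.X) = (CoordGrp.GLn.det : CoordGrp.GLn n k) from
      CoordGrp.GLn.det_eq.symm, CoordGrp.GLn.det_mul_Dinv, map_one]
  have hu : IsUnit (N.det * d₀) := by
    have : IsNilpotent (N.det * d₀ - 1) := ⟨2, by
      rw [← Ideal.mem_bot, ← hI]
      exact Ideal.pow_mem_pow h1 2⟩
    simpa using this.isUnit_add_one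
  obtain ⟨d, hd⟩ := (isUnit_of_mul_isUnit_left hu).exists_right_inv
  refine ⟨CoordGrp.GLn.pt n k N d hd, CoordGrp.GLn.algHom_ext (fun i j => ?_) ?_⟩
  · show Ideal.Quotient.mk I (CoordGrp.GLn.pt n k N d hd (CoordGrp.GLn.X i j)) = _
    rw [CoordGrp.GLn.pt_X]
    exact hM (i, j)
  · show Ideal.Quotient.mk I (CoordGrp.GLn.pt n k N d hd CoordGrp.GLn.Dinv) = _
    rw [CoordGrp.GLn.pt_Dinv]
    have e1 : Ideal.Quotient.mk I N.det * Ideal.Quotient.mk I d = 1 := by rw [← map_mul, hd, map_one]
    have e2 : Ideal.Quotient.mk I N.det * f CoordGrp.GLn.Dinv = 1 := by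
      rw [← hd₀, ← map_mul, ← sub_eq_zero, ← map_one (Ideal.Quotient.mk I), ← map_sub, Ideal.Quotient.eq_zero_iff_mem]
      exact h1
    exact left_inv_eq_right_inv ((mul_comm _ _).trans e1) e2

theorem finitePresentation_GLn : Algebra.FinitePresentation k (CoordGrp.GLn n k) := by
  haveI : Algebra.FinitePresentation k (CoordGrp.GLb n k) :=
    inferInstanceAs (Algebra.FinitePresentation k (MvPolynomial _ k))
  exact Algebra.FinitePresentation.quotient (show (CoordGrp.GLb.relIdeal n k).FG from ⟨{CoordGrp.GLb.rel n k}, by simp [CoordGrp.GLb.relIdeal]⟩)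

theorem smooth_sp_GLn : Smooth (CoactBr.sp k (CoordGrp.GLn n k)).hom := by
  show Smooth (Spec.map (CommRingCat.ofHom (algebraMap k (CoordGrp.GLn n k))))
  rw [HasRingHomProperty.Spec_iff (P := @Smooth)]
  haveI := formallySmooth_GLn k n
  haveI := finitePresentation_GLn k n
  haveI : Algebra.Smooth k (CoordGrp.GLn n k) := ⟨inferInstance, inferInstance⟩
  exact RingHom.smooth_algebraMap.2 inferInstance

end Groth.Agent.InvRing21
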