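import Groth.Agent.Lib.InvRing21.Points

/-!
# Semi-invariant functions, finite stable subspaces, equivariance tested on points
-/

set_option autoImplicit false
set_option linter.style.haveILetI false
set_option backward.isDefEq.respectTransparency.types false
universe u

open CategoryTheory MonoidalCategory CartesianMonoidalCategory MonObj AlgebraicGeometry
open scoped TensorProduct

noncomputable section

namespace Groth.Agent.InvRing21

variable {k : Type u} [Field k]

attribute [local instance] gamAlg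

variable {G H : Over (Spec (CommRingCat.of k))} [GrpObj G] [GrpObj H]

/-- `f (x h) = l h * f x` at rational points. -/
def Semi (i : H ⟶ G) (l : (VecGrp.pt k k ⟶ H) → k) (f : Γ(G.left, ⊤)) : Prop :=
  ∀ (x : VecGrp.pt k k ⟶ G) (h : VecGrp.pt k k ⟶ H), val (x * (h ≫ i)) f = l h * val x f

variable {i : H ⟶ G} {l l' : (VecGrp.pt k k ⟶ H) → k} {f f' : Γ(G.left, ⊤)}

omit [GrpObj H] in
theorem Semi.mul (hf : Semi i l f) (hf' : Semi i l' f') : Semi i (l * l') (f * f') := fun x h => by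
  rw [map_mul, map_mul, hf, hf', Pi.mul_apply]
  ring

omit [GrpObj H] in
theorem Semi.congr (hf : Semi i l f) (h : ∀ x, l x = l' x) : Semi i l' f := funext h ▸ hf

omit [GrpObj H] in
theorem semi_one_iff [IsAlgClosed k] [IsAffine G.left] [Smooth G.hom] [IsAffine H.left] [Smooth H.hom] :
    Semi i 1 f ↔ AGF.IsRTransInv i f := by
  rw [isRTransInv_iff_val]
  simp [Semi]

omit [GrpObj H] in
theorem Semi.lTr (hf : Semi i l f) (c : VecGrp.pt k k ⟶ G) : Semi i l ((lTr c).left.appTop f) := fun x h => by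
  rw [val_lTr, val_lTr, ← mul_assoc c x (h ≫ i), hf]

omit [GrpObj H] in
theorem Semi.smul (hf : Semi i l f) (a : k) : Semi i l (a • f) := fun x h => by
  rw [map_smul, map_smul, hf, smul_eq_mul, smul_eq_mul]
  ring

omit [GrpObj H] in
theorem exists_val_ne_zero [IsAlgClosed k] [IsAffine G.left] [Smooth G.hom] (hne : f ≠ 0) :
    ∃ x : VecGrp.pt k k ⟶ G, val x f ≠ 0 := by
  by_contra! h
  exact hne (ext_val fun x => by rw [h, map_zero])

omit [GrpObj H] in
theorem Semi.exists_one [IsAlgClosed k] [IsAffine G.left] [Smooth G.hom] (hf : Semi i l f) (hne : f ≠ 0) :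
    ∃ f', Semi i l f' ∧ val (1 : VecGrp.pt k k ⟶ G) f' = 1 := by
  obtain ⟨x, hx⟩ := exists_val_ne_zero hne
  refine ⟨(val x f)⁻¹ • (InvRing21.lTr x).left.appTop f, (hf.lTr x).smul _, ?_⟩
  rw [map_smul, val_lTr, _root_.mul_one x, smul_eq_mul, inv_mul_cancel₀ hx]

theorem Semi.mult [IsMonHom i] (hf : Semi i l f) (h1 : val (1 : VecGrp.pt k k ⟶ G) f ≠ 0) :
    l 1 = 1 ∧ ∀ h h', l (h * h') = l h' * l h := by
  refine ⟨?_, fun h h' => ?_⟩
  · have := hf 1 1
    rw [MonObj.one_comp i, _root_.one_mul (1 : VecGrp.pt k k ⟶ G)] at this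
    exact (mul_eq_right₀ h1).1 this.symm
  · have := hf 1 (h * h')
    rw [MonObj.mul_comp, ← mul_assoc (1 : VecGrp.pt k k ⟶ G) (h ≫ i) (h' ≫ i), hf, hf, ← _root_.mul_assoc (l h')] at this
    exact (mul_right_cancel₀ h1 this).symm

theorem Semi.ne_zero [IsMonHom i] (hf : Semi i l f) (h1 : val (1 : VecGrp.pt k k ⟶ G) f ≠ 0) (h : VecGrp.pt k k ⟶ H) :
    l h ≠ 0 := fun h0 => by
  obtain ⟨he, hm⟩ := hf.mult h1
  have := hm h h⁻¹
  rw [mul_inv_cancel, he, h0, mul_zero] at this
  exact one_ne_zero this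

variable [IsAffine G.left] {M : Type u} [AddCommGroup M] [Module k M]

omit [GrpObj H] in
/-- An eigenvector gives a semi-invariant coefficient function. -/
theorem exists_semi_of_vector (ρ : VecGrp.GMod G M) (v : M) (hv : v ≠ 0)
    (hl : ∀ h : VecGrp.pt k k ⟶ H, ρ.ρ k (h ≫ i) ((1 : k) ⊗ₜ[k] v) = l h • ((1 : k) ⊗ₜ[k] v)) :
    ∃ f, Semi i l f ∧ val (1 : VecGrp.pt k k ⟶ G) f = 1 := by
  obtain ⟨ξ, hξ⟩ := Module.Projective.exists_dual_eq_one k hv
  refine ⟨coef ρ ξ v, fun x h => ?_, ?_⟩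
  · rw [← ctr_rho, rho_mul, hl, map_smul, lTensor_smul', ctr_rho]
  · rw [← ctr_rho, map_one]
    show ctr ξ ((1 : k) ⊗ₜ[k] v) = 1
    rw [ctr_tmul, hξ, one_smul]

/-- Right translation in the regular representation at rational points. -/
theorem val_mul_eq (x g : VecGrp.pt k k ⟶ G) (f : Γ(G.left, ⊤)) :
    val (x * g) f = Algebra.TensorProduct.lift (AlgHom.id k k) (val x) (fun _ _ => mul_comm _ _)
      ((regular G).ρ k g ((1 : k) ⊗ₜ[k] f)) := by
  rw [regular_one_tmul, ← AlgHom.comp_apply, ← val_ptMap, MonObj.comp_mul, xPt, gPt, ← Category.assoc,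
    ← Category.assoc, ptMap_comp, ptMap_comp,
    show (Algebra.TensorProduct.lift (AlgHom.id k k) (val x) fun _ _ => mul_comm _ _).comp
      Algebra.TensorProduct.includeRight = val x from AlgHom.ext fun a => by simp,
    show (Algebra.TensorProduct.lift (AlgHom.id k k) (val x) fun _ _ => mul_comm _ _).comp
      (Algebra.TensorProduct.includeLeft (S := k)) = AlgHom.id k k from AlgHom.ext fun a => by simp, ptMap_val,
    show VecGrp.ptMap (AlgHom.id k k) = 𝟙 _ from Over.OverMorphism.ext (Spec.map_id _), Category.id_comp]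

/-- A finite family lies in a finite dimensional subspace with an adapted formula for the action. -/
theorem exists_stable_span (ρ : VecGrp.GMod G M) (s : Finset M) :
    ∃ W : Submodule k M, Module.Finite k W ∧ (∀ a ∈ s, a ∈ W) ∧
      ∀ w ∈ W, ∀ (B : Type u) [CommRing B] [Algebra k B] (p : VecGrp.pt k B ⟶ G),
        ∃ (n : ℕ) (c : Fin n → B) (u : Fin n → M), (∀ a, u a ∈ W) ∧ ρ.ρ B p (1 ⊗ₜ[k] w) = ∑ a, c a ⊗ₜ[k] u a := by
  classical
  choose n v ξ hξ hspan hv using fun a : M => exists_finite_stable ρ a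
  let T : Set M := ⋃ a ∈ s, Set.range (v a)
  have hTfin : T.Finite := s.finite_toSet.biUnion fun a _ => Set.finite_range _
  refine ⟨Submodule.span k T, Module.Finite.span_of_finite k hTfin, fun a ha => ?_, ?_⟩
  · exact Submodule.span_mono (Set.subset_biUnion_of_mem (u := fun a => Set.range (v a)) ha) (hspan a)
  intro w hw B _ _ p
  suffices h : ρ.ρ B p (1 ⊗ₜ[k] w) ∈ Submodule.span B ((fun u => (1 : B) ⊗ₜ[k] u) '' T) by
    obtain ⟨n, c, u, he⟩ := Submodule.mem_span_set'.1 h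
    choose u' hu' hue using fun a => (u a).2
    refine ⟨n, c, u', fun a => Submodule.subset_span (hu' a), he.symm.trans (Finset.sum_congr rfl fun a _ => ?_)⟩
    rw [← hue a, TensorProduct.smul_tmul', smul_eq_mul, _root_.mul_one]
  induction hw using Submodule.span_induction with
  | zero => simp
  | add x y _ _ hx hy => rw [TensorProduct.tmul_add, map_add]; exact add_mem hx hy
  | smul c x _ hx =>
    rw [TensorProduct.tmul_smul, ← algebraMap_smul B c, map_smul]
    exact Submodule.smul_mem _ _ hx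
  | mem x hx =>
    obtain ⟨a, ha, j, rfl⟩ := Set.mem_iUnion₂.1 hx
    rw [hv a j B p]
    refine Submodule.sum_mem _ fun r _ => ?_
    rw [← _root_.mul_one (val p _), ← smul_eq_mul, ← TensorProduct.smul_tmul']
    exact Submodule.smul_mem _ _ (Submodule.subset_span ⟨_, Set.mem_biUnion ha (Set.mem_range_self r), rfl⟩)

/-- The matrix of a stable finite dimensional subspace in any basis. -/
theorem exists_coords (ρ : VecGrp.GMod G M) {W : Submodule k M}
    (hW : ∀ w ∈ W, ∀ (B : Type u) [CommRing B] [Algebra k B] (p : VecGrp.pt k B ⟶ G),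
      ∃ (n : ℕ) (c : Fin n → B) (u : Fin n → M), (∀ a, u a ∈ W) ∧ ρ.ρ B p (1 ⊗ₜ[k] w) = ∑ a, c a ⊗ₜ[k] u a)
    {J : Type*} [Fintype J] [DecidableEq J] (e : Module.Basis J k W) :
    ∃ ξ : J → Module.Dual k M, (∀ a b, ξ a (e b) = if a = b then 1 else 0) ∧ (∀ w ∈ W, w = ∑ a, ξ a w • (e a : M)) ∧
      ∀ b (B : Type u) [CommRing B] [Algebra k B] (p : VecGrp.pt k B ⟶ G),
        ρ.ρ B p (1 ⊗ₜ[k] (e b : M)) = ∑ a, val p (coef ρ (ξ a) (e b)) ⊗ₜ[k] (e a : M) := by
  obtain ⟨P, hP⟩ := LinearMap.exists_leftInverse_of_injective W.subtype W.ker_subtype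
  have hPw : ∀ w : W, P w = w := fun w => LinearMap.congr_fun hP w
  let ξ : J → Module.Dual k M := fun a => e.coord a ∘ₗ P
  have hξe : ∀ w ∈ W, w = ∑ a, ξ a w • (e a : M) := fun w hw => by
    have := congrArg W.subtype (e.sum_repr ⟨w, hw⟩)
    simp only [map_sum, map_smul, Submodule.subtype_apply] at this
    simpa [ξ, hPw ⟨w, hw⟩] using this.symm
  refine ⟨ξ, fun a b => ?_, hξe, fun b B _ _ p => ?_⟩
  · simp only [ξ, LinearMap.comp_apply, hPw, Module.Basis.coord_apply, Module.Basis.repr_self, Finsupp.single_apply]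
    exact if_congr eq_comm rfl rfl
  · obtain ⟨n, c, u, hu, hcu⟩ := hW _ (e b).2 B p
    simp only [← ctr_rho, hcu, map_sum, ctr_tmul, TensorProduct.sum_tmul]
    rw [Finset.sum_comm]
    refine Finset.sum_congr rfl fun r _ => ?_
    conv_lhs => rw [hξe _ (hu r), TensorProduct.tmul_sum]
    simp [TensorProduct.tmul_smul, TensorProduct.smul_tmul']

/-- Rational points see right translation inside a stable subspace. -/
theorem val_mul_coords {W : Submodule k Γ(G.left, ⊤)} {J : Type*} [Fintype J] (e : Module.Basis J k W)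
    {ξ : J → Module.Dual k Γ(G.left, ⊤)}
    (he : ∀ b (B : Type u) [CommRing B] [Algebra k B] (p : VecGrp.pt k B ⟶ G),
      (regular G).ρ B p (1 ⊗ₜ[k] (e b : Γ(G.left, ⊤))) =
        ∑ a, val p (coef (regular G) (ξ a) (e b)) ⊗ₜ[k] (e a : Γ(G.left, ⊤)))
    (x g : VecGrp.pt k k ⟶ G) (b : J) :
    val (x * g) (e b : Γ(G.left, ⊤)) = ∑ a, val g (coef (regular G) (ξ a) (e b)) * val x (e a : Γ(G.left, ⊤)) := by
  rw [val_mul_eq, he b k g, map_sum]
  simp

omit [GrpObj G] [GrpObj H] in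
theorem Wmap_baseChange {V W : Type u} [AddCommGroup V] [Module k V] [AddCommGroup W] [Module k W]
    {B B' : Type u} [CommRing B] [Algebra k B] [CommRing B'] [Algebra k B'] (φ : B →ₐ[k] B') (Φ : V →ₗ[k] W)
    (x : B ⊗[k] V) : VecGrp.Wmap φ (Φ.baseChange B x) = Φ.baseChange B' (VecGrp.Wmap φ x) := by
  induction x using TensorProduct.induction_on with
  | zero => simp
  | tmul b v => rfl
  | add x y hx hy => simp only [map_add, hx, hy]

/-- A linear map equivariant at rational points of a smooth affine group is equivariant at all points. -/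
theorem intertwine_of_points [IsAlgClosed k] [IsAffine H.left] [Smooth H.hom] {V W : Type u} [AddCommGroup V]
    [Module k V] [AddCommGroup W] [Module k W] (σ : VecGrp.GMod H V) (ρ : VecGrp.GMod G W) (Φ : V →ₗ[k] W)
    (hp : ∀ (h : VecGrp.pt k k ⟶ H) (v : V),
      Φ.baseChange k (σ.ρ k h (1 ⊗ₜ[k] v)) = ρ.ρ k (h ≫ i) (1 ⊗ₜ[k] Φ v))
    (B : Type u) [CommRing B] [Algebra k B] (h : VecGrp.pt k B ⟶ H) (x : B ⊗[k] V) :
    Φ.baseChange B (σ.ρ B h x) = ρ.ρ B (h ≫ i) (Φ.baseChange B x) := by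
  induction x using TensorProduct.induction_on with
  | zero => simp
  | add x y hx hy => simp only [map_add, hx, hy]
  | tmul b v =>
    suffices hu : Φ.baseChange B (σ.ρ B h (1 ⊗ₜ[k] v)) = ρ.ρ B (h ≫ i) (1 ⊗ₜ[k] Φ v) by
      rw [show b ⊗ₜ[k] v = b • ((1 : B) ⊗ₜ[k] v) by rw [TensorProduct.smul_tmul', smul_eq_mul, _root_.mul_one],
        map_smul, map_smul, hu, map_smul, map_smul]
      rfl
    have univ : Φ.baseChange _ (σ.ρ Γ(H.left, ⊤) (uPt H) (1 ⊗ₜ[k] v)) =
        ρ.ρ Γ(H.left, ⊤) (uPt H ≫ i) (1 ⊗ₜ[k] Φ v) := by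
      refine eq_of_ctr_eq fun ζ => ext_val fun x => ?_
      rw [ctr_Wmap, ctr_Wmap, Wmap_baseChange, σ.naturality, ρ.naturality, VecGrp.Wmap_tmul, VecGrp.Wmap_tmul,
        map_one, ← Category.assoc, ptMap_val]
      exact congrArg (ctr ζ) (hp x v)
    have := congrArg (VecGrp.Wmap (val h)) univ
    rwa [Wmap_baseChange, σ.naturality, ρ.naturality, VecGrp.Wmap_tmul, VecGrp.Wmap_tmul, map_one, ← Category.assoc,
      ptMap_val] at this

end Groth.Agent.InvRing21
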