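import Groth.Agent.Lib.InvRing21.Line

/-!
# Open subgroups are observable; averaging semi-invariants over a subgroup of finite index
-/

set_option autoImplicit false
set_option linter.style.haveILetI false
set_option backward.isDefEq.respectTransparency.types false
universe u

open CategoryTheory MonoidalCategory CartesianMonoidalCategory MonObj AlgebraicGeometry
open scoped TensorProduct

noncomputable section

namespace Groth.Agent.InvRing21

variable {k : Type u} [Field k] [IsAlgClosed k]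

attribute [local instance] gamAlg

variable {G H : Over (Spec (CommRingCat.of k))} [GrpObj G] [IsAffine G.left] [Smooth G.hom] [GrpObj H]

theorem smooth_of_openImmersion (j : H ⟶ G) [IsOpenImmersion j.left] : Smooth H.hom := by
  rw [← Over.w j]
  infer_instance

/-- An open subgroup is observable. -/
theorem observable_of_open (j : H ⟶ G) [IsMonHom j] [IsOpenImmersion j.left] : AGF.IsObservableIn k j := by
  haveI := isClosedImmersion_of_open_subgroup j
  haveI := smooth_of_openImmersion j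
  haveI : IsAffine H.left := isAffine_of_isAffineHom j.left
  obtain ⟨e, he⟩ := exists_indicator j (isClosed_range j)
  intro g hg
  have hinv : AGF.IsRTransInv j e := by
    rw [isRTransInv_iff_val]
    intro x t
    by_cases hx : ∃ y, y ≫ j = x
    · obtain ⟨y, rfl⟩ := hx
      rw [(he _).1 ⟨y, rfl⟩, ← MonObj.mul_comp, (he _).1 ⟨_, rfl⟩]
    · rw [(he _).2 hx, (he _).2]
      rintro ⟨y, hy⟩
      exact hx ⟨y * t⁻¹, by rw [MonObj.mul_comp, GrpObj.inv_comp, hy, mul_assoc x, mul_inv_cancel, _root_.mul_one x]⟩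
  have := (isRTransInv_pt_iff_val g e).1 (hg e hinv) 1
  rw [_root_.one_mul g, (he 1).1 ⟨1, MonObj.one_comp j⟩] at this
  by_contra hcon
  rw [(he g).2 hcon] at this
  exact zero_ne_one this

/-- Finitely many nonvanishing conditions can be met simultaneously. -/
theorem exists_forall_ne_zero {W Q : Type*} [AddCommGroup W] [Module k W] [Finite Q] (L : Q → W →ₗ[k] k)
    (S : Submodule k W) (h : ∀ c, ∃ w ∈ S, L c w ≠ 0) : ∃ w ∈ S, ∀ c, L c w ≠ 0 := by
  classical
  haveI := Fintype.ofFinite Q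
  haveI : Infinite k := IsAlgClosed.instInfinite
  suffices hs : ∀ s : Finset Q, ∃ w ∈ S, ∀ c ∈ s, L c w ≠ 0 by
    obtain ⟨w, hw, hw'⟩ := hs Finset.univ
    exact ⟨w, hw, fun c => hw' c (Finset.mem_univ c)⟩
  intro s
  induction s using Finset.induction_on with
  | empty => exact ⟨0, S.zero_mem, by simp⟩
  | @insert a s _ ih =>
    obtain ⟨w, hw, hws⟩ := ih
    obtain ⟨v, hv, hva⟩ := h a
    obtain ⟨t, ht⟩ := Infinite.exists_notMem_finset
      ((insert a s).image fun c => -(L c w / L c v))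
    refine ⟨w + t • v, S.add_mem hw (S.smul_mem t hv), fun c hc h0 => ?_⟩
    rw [map_add, map_smul, smul_eq_mul] at h0
    by_cases hcv : L c v = 0
    · rw [hcv, mul_zero, add_zero] at h0
      rcases Finset.mem_insert.1 hc with rfl | hcs
      · exact hva hcv
      · exact hws c hcs h0
    · refine ht (Finset.mem_image.2 ⟨c, hc, ?_⟩)
      field_simp
      linear_combination -h0

/-- If the open subgroup of `H` has inverse semi-invariants then so does `H`. -/
theorem exists_inv_of_open {H₀ : Over (Spec (CommRingCat.of k))} [GrpObj H₀] [IsAffine H.left] [Smooth H.hom]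
    (jH : H₀ ⟶ H) [IsMonHom jH] [IsOpenImmersion jH.left] (i : H ⟶ G) [IsMonHom i] [IsClosedImmersion i.left]
    (hobs : AGF.IsObservableIn k (jH ≫ i)) {l : (VecGrp.pt k k ⟶ H) → k} {f : Γ(G.left, ⊤)} (hf : Semi i l f)
    (hf1 : val (1 : VecGrp.pt k k ⟶ G) f = 1) :
    ∃ d, Semi i l⁻¹ d ∧ val (1 : VecGrp.pt k k ⟶ G) d ≠ 0 := by
  classical
  have hf10 : val (1 : VecGrp.pt k k ⟶ G) f ≠ 0 := by rw [hf1]; exact one_ne_zero
  obtain ⟨hl1, hlm⟩ := hf.mult hf10
  have hl0 := hf.ne_zero hf10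
  haveI := isClosedImmersion_of_open_subgroup jH
  haveI := smooth_of_openImmersion jH
  haveI : IsClosedImmersion (jH ≫ i).left := inferInstanceAs (IsClosedImmersion (jH.left ≫ i.left))
  have hf₀ : Semi (jH ≫ i) (fun h => l (h ≫ jH)) f := fun x h => by rw [← Category.assoc]; exact hf x _
  obtain ⟨d₀, hd₀, hd₀1⟩ := hf₀.exists_inv hobs hf10
  let K : Subgroup (VecGrp.pt k k ⟶ H) :=
    { carrier := {x | ∃ y, y ≫ jH = x}
      mul_mem' := fun {a b} ⟨y, hy⟩ ⟨y', hy'⟩ => ⟨y * y', by rw [MonObj.mul_comp, hy, hy']⟩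
      one_mem' := ⟨1, MonObj.one_comp jH⟩
      inv_mem' := fun {a} ⟨y, hy⟩ => ⟨y⁻¹, by rw [GrpObj.inv_comp, hy]⟩ }
  obtain ⟨s, hs⟩ := exists_finite_cosets jH
  haveI : Finite ((VecGrp.pt k k ⟶ H) ⧸ K) := by
    refine Finite.of_surjective (fun c : {c // c ∈ s} => ((c.1⁻¹ : VecGrp.pt k k ⟶ H) : _ ⧸ K)) fun q => ?_
    obtain ⟨x, rfl⟩ := QuotientGroup.mk_surjective q
    obtain ⟨c, hc, y, hy⟩ := hs x
    refine ⟨⟨c, hc⟩, QuotientGroup.eq.2 ⟨y, ?_⟩⟩
    rw [hy, inv_inv]
  haveI := Fintype.ofFinite ((VecGrp.pt k k ⟶ H) ⧸ K)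
  let S : Submodule k Γ(G.left, ⊤) :=
    { carrier := {e | Semi (jH ≫ i) (fun h => (l (h ≫ jH))⁻¹) e}
      add_mem' := fun {a b} ha hb x h => by rw [map_add, map_add, ha, hb, mul_add]
      zero_mem' := fun x h => by simp
      smul_mem' := fun c e he => he.smul c }
  obtain ⟨d, hdS, hd⟩ := exists_forall_ne_zero (fun c : (VecGrp.pt k k ⟶ H) ⧸ K => (val (c.out ≫ i)).toLinearMap) S
    fun c => ⟨(lTr (c.out ≫ i)⁻¹).left.appTop d₀, hd₀.lTr _, by
      show val (c.out ≫ i) _ ≠ 0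
      rwa [val_lTr, inv_mul_cancel]⟩
  let D : Γ(G.left, ⊤) := ∏ c : (VecGrp.pt k k ⟶ H) ⧸ K, l c.out • (rTr (c.out ≫ i)).left.appTop d
  have hDx : ∀ x, val x D = ∏ c : (VecGrp.pt k k ⟶ H) ⧸ K, l c.out * val (x * (c.out ≫ i)) d := fun x => by
    simp only [D, map_prod, map_smul, smul_eq_mul, val_rTr]
  have hstep : ∀ (x : VecGrp.pt k k ⟶ G) (h : VecGrp.pt k k ⟶ H) (c : (VecGrp.pt k k ⟶ H) ⧸ K),
      l c.out * val (x * (h ≫ i) * (c.out ≫ i)) d =
        (l h)⁻¹ * (l (h • c).out * val (x * ((h • c).out ≫ i)) d) := by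
    intro x h c
    have hc : ((h * c.out : VecGrp.pt k k ⟶ H) : _ ⧸ K) = h • c := by
      conv_rhs => rw [← QuotientGroup.out_eq' c]
      rfl
    obtain ⟨y, hy⟩ : (h • c).out⁻¹ * (h * c.out) ∈ K := QuotientGroup.eq.1 (by rw [QuotientGroup.out_eq', hc])
    have hprod : h * c.out = (h • c).out * (y ≫ jH) := by rw [hy, mul_inv_cancel_left]
    rw [mul_assoc x (h ≫ i) (c.out ≫ i), ← MonObj.mul_comp, hprod, MonObj.mul_comp,
      ← mul_assoc x ((h • c).out ≫ i), Category.assoc y jH i, (hdS : Semi _ _ d)]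
    have hlp := congrArg l hprod
    rw [hlm, hlm] at hlp
    have h0 := hl0 h
    have h1 := hl0 (y ≫ jH)
    field_simp
    linear_combination (val (x * ((h • c).out ≫ i)) d) * hlp
  have hD : Semi i (fun h => ((l h)⁻¹) ^ Fintype.card ((VecGrp.pt k k ⟶ H) ⧸ K)) D := by
    intro x h
    rw [hDx, hDx, Finset.prod_congr rfl fun c _ => hstep x h c, Finset.prod_mul_distrib, Finset.prod_const,
      Finset.card_univ]
    congr 1
    exact Equiv.prod_comp (MulAction.toPerm h) fun c : (VecGrp.pt k k ⟶ H) ⧸ K => l c.out * val (x * (c.out ≫ i)) d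
  have hpos : 0 < Fintype.card ((VecGrp.pt k k ⟶ H) ⧸ K) := Fintype.card_pos
  obtain ⟨n, hn⟩ := Nat.exists_eq_add_one.2 hpos
  refine ⟨D * f ^ n, fun x h => ?_, ?_⟩
  · rw [map_mul, map_mul, map_pow, map_pow, hD, hf, hn, Pi.inv_apply]
    rw [show (l h)⁻¹ ^ (n + 1) * val x D * (l h * val x f) ^ n = (l h)⁻¹ * ((l h)⁻¹ * l h) ^ n * (val x D * val x f ^ n) from by
      ring, inv_mul_cancel₀ (hl0 h), one_pow, _root_.mul_one]
  · rw [map_mul, map_pow, hf1, one_pow, _root_.mul_one, hDx]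
    exact Finset.prod_ne_zero_iff.2 fun c _ => mul_ne_zero (hl0 _) (by rw [_root_.one_mul (c.out ≫ i)]; exact hd c)

end Groth.Agent.InvRing21
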