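import Groth.Agent.Lib.InvRing21.Stab
import Groth.Agent.Lib.OrbitTop19.Smooth
import Groth.Agent.Lib.UnitsRos.Scheme

/-!
# Functions on an affine group through their values at rational points
-/

set_option autoImplicit false
set_option linter.style.haveILetI false
set_option backward.isDefEq.respectTransparency.types false
universe u

open CategoryTheory MonoidalCategory CartesianMonoidalCategory MonObj AlgebraicGeometry
open scoped TensorProduct

noncomputable section

namespace Groth.Agent.InvRing21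

variable {k : Type u} [Field k]

attribute [local instance] gamAlg

/-- The constant morphism to the rational test point. -/
def toPt (T : Over (Spec (CommRingCat.of k))) : T ⟶ VecGrp.pt k k :=
  Over.homMk T.hom (by
    show T.hom ≫ Spec.map (CommRingCat.ofHom (algebraMap k k)) = T.hom
    rw [show CommRingCat.ofHom (algebraMap k k) = 𝟙 _ from rfl, Spec.map_id, Category.comp_id])

theorem toPt_pt : toPt (VecGrp.pt k k) = 𝟙 _ := Over.OverMorphism.ext (by
  show Spec.map (CommRingCat.ofHom (algebraMap k k)) = 𝟙 _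
  rw [show CommRingCat.ofHom (algebraMap k k) = 𝟙 _ from rfl, Spec.map_id])

theorem comp_toPt {T T' : Over (Spec (CommRingCat.of k))} (f : T ⟶ T') : f ≫ toPt T' = toPt T :=
  Over.OverMorphism.ext (Over.w f)

theorem hom_ext_toPt {T : Over (Spec (CommRingCat.of k))} (f g : T ⟶ VecGrp.pt k k) : f = g := by
  rw [← Category.comp_id f, ← Category.comp_id g, ← toPt_pt, comp_toPt, comp_toPt]

theorem finiteType_gam (X : Over (Spec (CommRingCat.of k))) [IsAffine X.left] [LocallyOfFiniteType X.hom] :
    Algebra.FiniteType k Γ(X.left, ⊤) := by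
  have h : (Scheme.Hom.appTop X.hom).hom.FiniteType :=
    HasRingHomProperty.appTop (P := @LocallyOfFiniteType) _ inferInstance
  exact h.comp (RingHom.FiniteType.of_surjective _
    (Scheme.ΓSpecIso (CommRingCat.of k)).symm.commRingCatIsoToRingEquiv.surjective)

theorem appTop_val {G G' : Over (Spec (CommRingCat.of k))} {B : Type u} [CommRing B] [Algebra k B]
    (x : VecGrp.pt k B ⟶ G) (m : G ⟶ G') (F : Γ(G'.left, ⊤)) :
    val x (m.left.appTop F) = val (x ≫ m) F := by
  show ptHom B (x.left.appTop _) = ptHom B ((x ≫ m).left.appTop F)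
  rw [Over.comp_left, Scheme.Hom.comp_appTop, CommRingCat.comp_apply]

/-- Global functions on a smooth affine scheme are determined by their values at rational points. -/
theorem ext_val [IsAlgClosed k] {X : Over (Spec (CommRingCat.of k))} [IsAffine X.left] [Smooth X.hom]
    {F F' : Γ(X.left, ⊤)} (h : ∀ x : VecGrp.pt k k ⟶ X, val x F = val x F') : F = F' := by
  haveI := OrbitTop19.isReduced_of_smooth X.hom
  haveI := finiteType_gam X
  by_contra hne
  obtain ⟨χ, hχ⟩ := UnitsRos.exists_point_ne_zero (k := k) (sub_ne_zero.2 hne)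
  refine hχ ?_
  have := h (VecGrp.ptMap χ ≫ uPt X)
  rw [val_ptMap, val_uPt, AlgHom.comp_id] at this
  rw [map_sub, this, sub_self]

variable {G : Over (Spec (CommRingCat.of k))} [GrpObj G]

/-- Invariance under translations tested on rational points. -/
theorem isRTransInv_iff_val [IsAlgClosed k] [IsAffine G.left] [Smooth G.hom]
    {T : Over (Spec (CommRingCat.of k))} [IsAffine T.left] [Smooth T.hom] (g : T ⟶ G) (F : Γ(G.left, ⊤)) :
    AGF.IsRTransInv g F ↔ ∀ (x : VecGrp.pt k k ⟶ G) (t : VecGrp.pt k k ⟶ T), val (x * (t ≫ g)) F = val x F := by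
  constructor
  · intro h x t
    have := val_pair g (lift x t) F h
    rwa [lift_fst, ← Category.assoc (lift x t), lift_snd] at this
  · intro h
    haveI : Smooth (G ⊗ T).hom := inferInstanceAs (Smooth (Limits.pullback.fst G.hom T.hom ≫ G.hom))
    refine ext_val fun q => ?_
    rw [appTop_val, appTop_val, whisker_mul, MonObj.comp_mul, ← Category.assoc]
    exact h _ _

/-- Invariance under a rational point tested on rational points. -/
theorem isRTransInv_pt_iff_val [IsAlgClosed k] [IsAffine G.left] [Smooth G.hom]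
    (g : VecGrp.pt k k ⟶ G) (F : Γ(G.left, ⊤)) :
    AGF.IsRTransInv g F ↔ ∀ x : VecGrp.pt k k ⟶ G, val (x * g) F = val x F := by
  haveI : Smooth (VecGrp.pt k k).hom := by
    show Smooth (Spec.map (CommRingCat.ofHom (algebraMap k k)))
    rw [show CommRingCat.ofHom (algebraMap k k) = 𝟙 _ from rfl, Spec.map_id]
    infer_instance
  rw [isRTransInv_iff_val]
  refine ⟨fun h x => by simpa using h x (𝟙 _), fun h x t => ?_⟩
  rw [hom_ext_toPt t (𝟙 _), Category.id_comp]
  exact h x

/-- Left translation by a rational point, as a map of schemes. -/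
def lTr (c : VecGrp.pt k k ⟶ G) : G ⟶ G := (toPt G ≫ c) * 𝟙 G

/-- Right translation by a rational point, as a map of schemes. -/
def rTr (c : VecGrp.pt k k ⟶ G) : G ⟶ G := 𝟙 G * (toPt G ≫ c)

theorem comp_lTr {T : Over (Spec (CommRingCat.of k))} (x : T ⟶ G) (c : VecGrp.pt k k ⟶ G) :
    x ≫ lTr c = (toPt T ≫ c) * x := by
  rw [lTr, MonObj.comp_mul, Category.comp_id, ← Category.assoc, comp_toPt]

theorem comp_rTr {T : Over (Spec (CommRingCat.of k))} (x : T ⟶ G) (c : VecGrp.pt k k ⟶ G) :
    x ≫ rTr c = x * (toPt T ≫ c) := by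
  rw [rTr, MonObj.comp_mul, Category.comp_id, ← Category.assoc, comp_toPt]

theorem val_lTr (x c : VecGrp.pt k k ⟶ G) (F : Γ(G.left, ⊤)) :
    val x ((lTr c).left.appTop F) = val (c * x) F := by
  rw [appTop_val, comp_lTr, toPt_pt, Category.id_comp]

theorem val_rTr (x c : VecGrp.pt k k ⟶ G) (F : Γ(G.left, ⊤)) :
    val x ((rTr c).left.appTop F) = val (x * c) F := by
  rw [appTop_val, comp_rTr, toPt_pt, Category.id_comp]

section component

variable [IsAlgClosed k] [IsAffine G.left] [LocallyOfFiniteType G.hom]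
variable {G₀ : Over (Spec (CommRingCat.of k))} [GrpObj G₀] (j : G₀ ⟶ G) [IsMonHom j] [IsOpenImmersion j.left]

/-- The image of a rational point. -/
abbrev img {X : Over (Spec (CommRingCat.of k))} (x : VecGrp.pt k k ⟶ X) : X.left :=
  x.left.base (IsLocalRing.closedPoint k)

omit [IsAlgClosed k] [GrpObj G] [IsAffine G.left] [LocallyOfFiniteType G.hom] [GrpObj G₀] [IsMonHom j] in
theorem exists_factor (x : VecGrp.pt k k ⟶ G) (h : img x ∈ Set.range j.left.base) :
    ∃ y : VecGrp.pt k k ⟶ G₀, y ≫ j = x := by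
  have hr : Set.range x.left.base ⊆ Set.range j.left.base := by
    rintro _ ⟨z, rfl⟩
    obtain rfl : z = IsLocalRing.closedPoint k := Subsingleton.elim (α := Spec (CommRingCat.of k)) _ _
    exact h
  have hl : IsOpenImmersion.lift j.left x.left hr ≫ j.left = x.left := IsOpenImmersion.lift_fac _ _ hr
  refine ⟨Over.homMk (IsOpenImmersion.lift j.left x.left hr) ?_, Over.OverMorphism.ext hl⟩
  rw [← Over.w j, ← Category.assoc, hl]
  exact Over.w x

omit [GrpObj G] [IsAffine G.left] in
theorem exists_img_mem {O : Set G.left} (hO : IsOpen O) (hne : O.Nonempty) :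
    ∃ q : VecGrp.pt k k ⟶ G, img q ∈ O := by
  obtain ⟨q, hq⟩ := UnitsRos.exists_point hO hne
  refine ⟨(Over.homMk (𝟙 (Spec (CommRingCat.of k))) (by
    show 𝟙 _ ≫ 𝟙 _ = Spec.map (CommRingCat.ofHom (algebraMap k k))
    rw [show CommRingCat.ofHom (algebraMap k k) = 𝟙 _ from rfl, Spec.map_id, Category.comp_id]) :
      VecGrp.pt k k ⟶ 𝟙_ (Over (Spec (CommRingCat.of k)))) ≫ q, ?_⟩
  exact hq

omit [IsAlgClosed k] [IsAffine G.left] [LocallyOfFiniteType G.hom] in
/-- Membership in the open subgroup at rational points. -/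
theorem img_mem_iff (x : VecGrp.pt k k ⟶ G) : img x ∈ Set.range j.left.base ↔ ∃ y, y ≫ j = x :=
  ⟨exists_factor j x, by rintro ⟨y, rfl⟩; exact ⟨_, rfl⟩⟩

omit [IsAlgClosed k] [IsAffine G.left] [LocallyOfFiniteType G.hom] in
theorem img_lTr_mem (x c : VecGrp.pt k k ⟶ G) :
    img x ∈ (lTr c).left.base ⁻¹' Set.range j.left.base ↔ ∃ y, y ≫ j = c * x := by
  rw [Set.mem_preimage, ← img_mem_iff, show img (c * x) = (lTr c).left.base (img x) from by
    rw [show c * x = x ≫ lTr c by rw [comp_lTr, toPt_pt, Category.id_comp]]; rfl]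

/-- An open subgroup is closed. -/
theorem isClosed_range : IsClosed (Set.range j.left.base) := by
  haveI : JacobsonSpace G.left := LocallyOfFiniteType.jacobsonSpace G.hom
  rw [← isOpen_compl_iff, isOpen_iff_forall_mem_open]
  intro p hp
  let W : Set G.left := ⋃ c ∈ {c : VecGrp.pt k k ⟶ G | ¬ ∃ y, y ≫ j = c},
    (lTr c⁻¹).left.base ⁻¹' Set.range j.left.base
  have hWo : IsOpen W := isOpen_biUnion fun c _ => j.left.isOpenEmbedding.isOpen_range.preimage (lTr c⁻¹).left.continuous
  have hdisj : Disjoint W (Set.range j.left.base) := by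
    rw [Set.disjoint_iff_inter_eq_empty, ← Set.not_nonempty_iff_eq_empty]
    intro hne
    obtain ⟨q, hqW, hqU⟩ := exists_img_mem (hWo.inter j.left.isOpenEmbedding.isOpen_range) hne
    obtain ⟨c, hc, hq⟩ := Set.mem_iUnion₂.1 hqW
    obtain ⟨y, hy⟩ := (img_lTr_mem j q c⁻¹).1 hq
    obtain ⟨z, hz⟩ := (img_mem_iff j q).1 hqU
    exact hc ⟨z * y⁻¹, by rw [MonObj.mul_comp, GrpObj.inv_comp, hy, hz]; group⟩
  have hcover : W ∪ Set.range j.left.base = Set.univ := by
    by_contra hne
    obtain ⟨r, hr, hrc⟩ := nonempty_inter_closedPoints (Set.nonempty_compl.2 hne)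
      (hWo.union j.left.isOpenEmbedding.isOpen_range).isClosed_compl.isLocallyClosed
    let q : VecGrp.pt k k ⟶ G := Over.homMk (pointOfClosedPoint G.hom r hrc) (by
      show pointOfClosedPoint G.hom r hrc ≫ G.hom = Spec.map (CommRingCat.ofHom (algebraMap k k))
      rw [pointOfClosedPoint_comp, show CommRingCat.ofHom (algebraMap k k) = 𝟙 _ from rfl, Spec.map_id])
    have hqr : img q = r := pointOfClosedPoint_apply G.hom r hrc _
    refine hr (Or.inl (Set.mem_iUnion₂.2 ⟨q, fun hq => hr (Or.inr (hqr ▸ (img_mem_iff j q).2 hq)), ?_⟩))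
    rw [← hqr, img_lTr_mem, inv_mul_cancel]
    exact ⟨1, MonObj.one_comp j⟩
  refine ⟨W, fun w hw hwU => Set.disjoint_left.1 hdisj hw hwU, hWo, ?_⟩
  exact ((Set.eq_univ_iff_forall.1 hcover) p).resolve_right hp

/-- Finitely many left translates of an open subgroup contain all rational points. -/
theorem exists_finite_cosets : ∃ s : Finset (VecGrp.pt k k ⟶ G), ∀ x : VecGrp.pt k k ⟶ G,
    ∃ c ∈ s, ∃ y, y ≫ j = c * x := by
  haveI : JacobsonSpace G.left := LocallyOfFiniteType.jacobsonSpace G.hom
  have hopen : ∀ c : VecGrp.pt k k ⟶ G, IsOpen ((lTr c).left.base ⁻¹' Set.range j.left.base) := fun c =>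
    j.left.isOpenEmbedding.isOpen_range.preimage (lTr c).left.continuous
  have hcover : (Set.univ : Set G.left) ⊆ ⋃ c, (lTr c).left.base ⁻¹' Set.range j.left.base := by
    intro r _
    by_contra hr
    obtain ⟨q, hq, hqc⟩ := nonempty_inter_closedPoints (⟨r, hr⟩ : ((⋃ c, (lTr c).left.base ⁻¹' Set.range j.left.base)ᶜ).Nonempty)
      (isOpen_iUnion hopen).isClosed_compl.isLocallyClosed
    let q' : VecGrp.pt k k ⟶ G := Over.homMk (pointOfClosedPoint G.hom q hqc) (by
      show pointOfClosedPoint G.hom q hqc ≫ G.hom = Spec.map (CommRingCat.ofHom (algebraMap k k))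
      rw [pointOfClosedPoint_comp, show CommRingCat.ofHom (algebraMap k k) = 𝟙 _ from rfl, Spec.map_id])
    refine hq (Set.mem_iUnion.2 ⟨q'⁻¹, ?_⟩)
    rw [← show img q' = q from pointOfClosedPoint_apply G.hom q hqc _, img_lTr_mem, inv_mul_cancel]
    exact ⟨1, MonObj.one_comp j⟩
  obtain ⟨s, hs⟩ := isCompact_univ.elim_finite_subcover _ hopen hcover
  refine ⟨s, fun x => ?_⟩
  obtain ⟨c, hc, hx⟩ := Set.mem_iUnion₂.1 (hs (Set.mem_univ (img x)))
  exact ⟨c, hc, (img_lTr_mem j x c).1 hx⟩

/-- The open subgroup is closed, hence affine. -/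
theorem isClosedImmersion_of_open_subgroup : IsClosedImmersion j.left :=
  IsClosedImmersion.of_isPreimmersion _ (isClosed_range j)

/-- The characteristic function of a clopen subscheme. -/
theorem exists_indicator (hclosed : IsClosed (Set.range j.left.base)) :
    ∃ e : Γ(G.left, ⊤), ∀ x : VecGrp.pt k k ⟶ G,
      ((∃ y, y ≫ j = x) → val x e = 1) ∧ ((¬ ∃ y, y ≫ j = x) → val x e = 0) := by
  let U : Set (Spec Γ(G.left, ⊤)) := G.left.isoSpec.inv.base ⁻¹' Set.range j.left.base
  have hU : IsClopen U := ⟨hclosed.preimage G.left.isoSpec.inv.continuous,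
    j.left.isOpenEmbedding.isOpen_range.preimage G.left.isoSpec.inv.continuous⟩
  obtain ⟨e, he, heU⟩ := PrimeSpectrum.exists_idempotent_basicOpen_eq_of_isClopen hU
  refine ⟨e, fun x => ?_⟩
  have hid : IsIdempotentElem (val x e) := he.map _
  have hmem : (∃ y, y ≫ j = x) ↔ val x e ≠ 0 := by
    have hx : x.left = Spec.map (CommRingCat.ofHom (val x).toRingHom) ≫ G.left.isoSpec.inv :=
      (congrArg (fun m => m.left) (ptMap_val x)).symm
    have h1 : img x ∈ Set.range j.left.base ↔
        PrimeSpectrum.comap (val x).toRingHom (IsLocalRing.closedPoint k) ∈ U := by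
      show x.left.base _ ∈ _ ↔ _
      rw [hx]
      rfl
    have h2 : (val x).toRingHom e ∉ (IsLocalRing.closedPoint k).asIdeal ↔ val x e ≠ 0 := by
      have : (IsLocalRing.closedPoint k).asIdeal = ⊥ :=
        (IsLocalRing.isField_iff_maximalIdeal_eq).1 (Field.toIsField k)
      rw [this, Ideal.mem_bot]
      rfl
    rw [← h2, ← img_mem_iff, h1, heU]
    rfl
  constructor
  · intro h
    exact (IsIdempotentElem.iff_eq_zero_or_one.1 hid).resolve_left (hmem.1 h)
  · intro h
    by_contra h0
    exact h (hmem.2 h0)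

end component

end Groth.Agent.InvRing21
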