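import Groth.Agent.Lib.InvRing21.Coef

/-!
# The regular representation by right translations
-/

set_option autoImplicit false
set_option linter.style.haveILetI false
set_option backward.isDefEq.respectTransparency.types false
universe u

open CategoryTheory MonoidalCategory CartesianMonoidalCategory MonObj AlgebraicGeometry
open scoped TensorProduct

noncomputable section

namespace Groth.Agent.InvRing21

variable {k : Type u} [Field k]

attribute [local instance] gamAlg

instance isAffine_pt (B : Type u) [CommRing B] [Algebra k B] : IsAffine (VecGrp.pt k B).left :=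
  inferInstanceAs (IsAffine (Spec (CommRingCat.of B)))

/-- Functions on `Spec B` are elements of `B`. -/
def ptHom (B : Type u) [CommRing B] [Algebra k B] : Γ((VecGrp.pt k B).left, ⊤) →ₐ[k] B :=
  { (Scheme.ΓSpecIso (CommRingCat.of B)).hom.hom with
    commutes' := fun c => by
      show ((Scheme.ΓSpecIso (CommRingCat.of k)).inv ≫ (Spec.map (CommRingCat.ofHom (algebraMap k B))).appTop ≫
        (Scheme.ΓSpecIso (CommRingCat.of B)).hom) c = _
      rw [Scheme.ΓSpecIso_naturality, Iso.inv_hom_id_assoc]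
      rfl }

variable {G : Over (Spec (CommRingCat.of k))}

/-- The algebra map given by a point. -/
def val {B : Type u} [CommRing B] [Algebra k B] (p : VecGrp.pt k B ⟶ G) : Γ(G.left, ⊤) →ₐ[k] B :=
  (ptHom B).comp (appAlg p)

theorem val_ptMap {B B' : Type u} [CommRing B] [Algebra k B] [CommRing B'] [Algebra k B'] (φ : B →ₐ[k] B')
    (p : VecGrp.pt k B ⟶ G) : val (VecGrp.ptMap φ ≫ p) = φ.comp (val p) :=
  AlgHom.ext fun f => by
    show ((VecGrp.ptMap φ ≫ p).left.appTop ≫ (Scheme.ΓSpecIso (CommRingCat.of B')).hom) f =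
      (p.left.appTop ≫ (Scheme.ΓSpecIso (CommRingCat.of B)).hom ≫ CommRingCat.ofHom φ.toRingHom) f
    rw [Over.comp_left, Scheme.Hom.comp_appTop, Category.assoc, VecGrp.ptMap_left, Scheme.ΓSpecIso_naturality]

variable [IsAffine G.left]

theorem ptMap_ptHom (B : Type u) [CommRing B] [Algebra k B] :
    VecGrp.ptMap (ptHom B) ≫ uPt (VecGrp.pt k B) = 𝟙 _ := by
  refine Over.OverMorphism.ext ?_
  show Spec.map (Scheme.ΓSpecIso (CommRingCat.of B)).hom ≫ (Spec (CommRingCat.of B)).isoSpec.inv = 𝟙 _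
  rw [isoSpec_inv_spec, ← Spec.map_comp, Iso.inv_hom_id, Spec.map_id]

theorem ptMap_val {B : Type u} [CommRing B] [Algebra k B] (p : VecGrp.pt k B ⟶ G) :
    VecGrp.ptMap (val p) ≫ uPt G = p := by
  rw [val, show VecGrp.ptMap ((ptHom B).comp (appAlg p)) = VecGrp.ptMap (ptHom B) ≫ VecGrp.ptMap (appAlg p) from
    Over.OverMorphism.ext (show Spec.map _ = Spec.map _ ≫ Spec.map _ by rw [← Spec.map_comp]; rfl),
    Category.assoc, ptMap_appAlg, ← Category.assoc, ptMap_ptHom, Category.id_comp]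

theorem val_uPt : val (uPt G) = AlgHom.id k _ := AlgHom.ext fun f => by
  show ((uPt G).left.appTop ≫ (Scheme.ΓSpecIso (CommRingCat.of Γ(G.left, ⊤))).hom) f = f
  rw [show (uPt G).left = G.left.isoSpec.inv from rfl]
  have : G.left.isoSpec.inv.appTop ≫ (Scheme.ΓSpecIso Γ(G.left, ⊤)).hom = 𝟙 _ := by
    rw [← Scheme.toSpecΓ_appTop, ← Scheme.Hom.comp_appTop, ← Scheme.isoSpec_hom, Iso.hom_inv_id]
    simp
  exact ConcreteCategory.congr_hom this f

variable [GrpObj G]

variable (G) in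
/-- The variable point of `G` over `B ⊗ Γ(G)`. -/
def xPt (B : Type u) [CommRing B] [Algebra k B] : VecGrp.pt k (B ⊗[k] Γ(G.left, ⊤)) ⟶ G :=
  VecGrp.ptMap (Algebra.TensorProduct.includeRight : Γ(G.left, ⊤) →ₐ[k] B ⊗[k] Γ(G.left, ⊤)) ≫ uPt G

/-- A point pulled to `B ⊗ Γ(G)`. -/
def gPt {B : Type u} [CommRing B] [Algebra k B] (g : VecGrp.pt k B ⟶ G) : VecGrp.pt k (B ⊗[k] Γ(G.left, ⊤)) ⟶ G :=
  VecGrp.ptMap (Algebra.TensorProduct.includeLeft : B →ₐ[k] B ⊗[k] Γ(G.left, ⊤)) ≫ g

/-- Right translation by a point on `B ⊗ Γ(G)`. -/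
def tr {B : Type u} [CommRing B] [Algebra k B] (g : VecGrp.pt k B ⟶ G) :
    B ⊗[k] Γ(G.left, ⊤) →ₐ[B] B ⊗[k] Γ(G.left, ⊤) :=
  Algebra.TensorProduct.lift (Algebra.ofId B _) (val (xPt G B * gPt g)) fun _ _ => mul_comm _ _

theorem tr_tmul {B : Type u} [CommRing B] [Algebra k B] (g : VecGrp.pt k B ⟶ G) (b : B) (f : Γ(G.left, ⊤)) :
    tr g (b ⊗ₜ f) = algebraMap B _ b * val (xPt G B * gPt g) f := Algebra.TensorProduct.lift_tmul _ _ _ _ _

theorem ptMap_comp {A B C : Type u} [CommRing A] [CommRing B] [CommRing C] [Algebra k A] [Algebra k B] [Algebra k C]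
    (φ : A →ₐ[k] B) (ψ : B →ₐ[k] C) : VecGrp.ptMap ψ ≫ VecGrp.ptMap φ = VecGrp.ptMap (ψ.comp φ) :=
  Over.OverMorphism.ext (show Spec.map _ ≫ Spec.map _ = Spec.map _ by
    rw [← Spec.map_comp, ← CommRingCat.ofHom_comp]; rfl)

theorem ptMap_tr_x {B : Type u} [CommRing B] [Algebra k B] (g : VecGrp.pt k B ⟶ G) :
    VecGrp.ptMap ((tr g).restrictScalars k) ≫ xPt G B = xPt G B * gPt g := by
  rw [xPt, ← Category.assoc, ptMap_comp]
  have : ((tr g).restrictScalars k).comp (Algebra.TensorProduct.includeRight : Γ(G.left, ⊤) →ₐ[k] B ⊗[k] Γ(G.left, ⊤)) =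
      val (xPt G B * gPt g) := AlgHom.ext fun f => by
    show tr g (1 ⊗ₜ f) = _
    rw [tr_tmul, map_one, _root_.one_mul]
  rw [this, ptMap_val]
  rfl

theorem ptMap_tr_g {B : Type u} [CommRing B] [Algebra k B] (g h : VecGrp.pt k B ⟶ G) :
    VecGrp.ptMap ((tr g).restrictScalars k) ≫ gPt h = gPt h := by
  rw [gPt, ← Category.assoc, ptMap_comp]
  congr 2
  exact AlgHom.ext fun b => by
    show tr g (b ⊗ₜ 1) = b ⊗ₜ 1
    rw [tr_tmul, map_one, _root_.mul_one]
    rfl

theorem tr_mul {B : Type u} [CommRing B] [Algebra k B] (g h : VecGrp.pt k B ⟶ G) : tr (g * h) = (tr g).comp (tr h) := by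
  refine Algebra.TensorProduct.ext' fun b f => ?_
  rw [AlgHom.comp_apply, tr_tmul, tr_tmul, map_mul, AlgHom.commutes]
  congr 1
  show _ = ((tr g).restrictScalars k).comp (val (xPt G B * gPt h)) f
  rw [← val_ptMap, MonObj.comp_mul, ptMap_tr_x, ptMap_tr_g, gPt, MonObj.comp_mul, _root_.mul_assoc]
  rfl

theorem tr_one {B : Type u} [CommRing B] [Algebra k B] : tr (1 : VecGrp.pt k B ⟶ G) = AlgHom.id B _ := by
  refine Algebra.TensorProduct.ext' fun b f => ?_
  rw [tr_tmul, gPt, MonObj.comp_one, _root_.mul_one (xPt G B), xPt, val_ptMap, val_uPt]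
  show algebraMap B _ b * ((1 : B) ⊗ₜ f) = b ⊗ₜ f
  rw [Algebra.TensorProduct.algebraMap_apply, Algebra.TensorProduct.tmul_mul_tmul]
  simp

/-- Right translation by a point as an automorphism. -/
def trEquiv {B : Type u} [CommRing B] [Algebra k B] (g : VecGrp.pt k B ⟶ G) :
    B ⊗[k] Γ(G.left, ⊤) ≃ₐ[B] B ⊗[k] Γ(G.left, ⊤) :=
  AlgEquiv.ofAlgHom (tr g) (tr g⁻¹) (by rw [← tr_mul, mul_inv_cancel, tr_one])
    (by rw [← tr_mul, inv_mul_cancel, tr_one])

variable (G) in
/-- The regular representation. -/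
def regular : VecGrp.GMod G Γ(G.left, ⊤) where
  ρ B _ _ :=
    { toFun := fun g => (trEquiv g).toLinearEquiv
      map_one' := LinearEquiv.ext fun x => DFunLike.congr_fun (tr_one (G := G) (B := B)) x
      map_mul' := fun g h => LinearEquiv.ext fun x => DFunLike.congr_fun (tr_mul g h) x }
  naturality {B B'} _ _ _ _ φ g x := by
    show VecGrp.Wmap φ (tr g x) = tr (VecGrp.ptMap φ ≫ g) (VecGrp.Wmap φ x)
    induction x using TensorProduct.induction_on with
    | zero => simp
    | add x y hx hy => simp only [map_add, hx, hy]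
    | tmul b f =>
      let Φ : B ⊗[k] Γ(G.left, ⊤) →ₐ[k] B' ⊗[k] Γ(G.left, ⊤) :=
        Algebra.TensorProduct.map φ (AlgHom.id k _)
      have hΦ : ∀ z, VecGrp.Wmap φ z = Φ z := fun z => by
        induction z using TensorProduct.induction_on with
        | zero => simp
        | tmul b f => rfl
        | add x y hx hy => simp only [map_add, hx, hy]
      rw [VecGrp.Wmap_tmul, tr_tmul, tr_tmul, hΦ, map_mul]
      congr 1
      · show Φ.comp (val (xPt G B * gPt g)) f = _
        rw [← val_ptMap, MonObj.comp_mul]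
        congr 3
        · rw [xPt, ← Category.assoc, ptMap_comp, Algebra.TensorProduct.map_comp_includeRight]
          rfl
        · rw [gPt, gPt, ← Category.assoc, ← Category.assoc, ptMap_comp, ptMap_comp,
            Algebra.TensorProduct.map_comp_includeLeft]

theorem regular_one_tmul {B : Type u} [CommRing B] [Algebra k B] (g : VecGrp.pt k B ⟶ G) (f : Γ(G.left, ⊤)) :
    (regular G).ρ B g ((1 : B) ⊗ₜ[k] f) = val (xPt G B * gPt g) f := by
  show tr g _ = _
  rw [tr_tmul, map_one, _root_.one_mul]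

theorem val_pair {B : Type u} [CommRing B] [Algebra k B] {T : Over (Spec (CommRingCat.of k))} [IsAffine T.left]
    (g : T ⟶ G) (q : VecGrp.pt k B ⟶ G ⊗ T) (f : Γ(G.left, ⊤)) (hf : AGF.IsRTransInv g f) :
    val ((q ≫ fst G T) * (q ≫ snd G T ≫ g)) f = val (q ≫ fst G T) f := by
  rw [← MonObj.comp_mul, ← whisker_mul]
  show ptHom B ((q.left ≫ ((G ◁ g) ≫ μ[G]).left).appTop f) = ptHom B ((q.left ≫ (fst G T).left).appTop f)
  rw [Scheme.Hom.comp_appTop, Scheme.Hom.comp_appTop, CommRingCat.comp_apply, CommRingCat.comp_apply]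
  exact congrArg (fun z => ptHom B (q.left.appTop z)) hf

/-- Functions invariant under right translations by `H` are the fixed vectors of the regular representation. -/
theorem mem_fixedUnder_regular {H : Over (Spec (CommRingCat.of k))} [GrpObj H] [IsAffine H.left] (i : H ⟶ G)
    (f : Γ(G.left, ⊤)) (hf : AGF.IsRTransInv i f) : f ∈ (regular G).fixedUnder i := by
  intro B _ _ h
  rw [regular_one_tmul]
  let q : VecGrp.pt k (B ⊗[k] Γ(G.left, ⊤)) ⟶ G ⊗ H :=
    lift (xPt G B) (VecGrp.ptMap (Algebra.TensorProduct.includeLeft : B →ₐ[k] B ⊗[k] Γ(G.left, ⊤)) ≫ h)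
  have := val_pair i q f hf
  rw [lift_fst, ← Category.assoc q, lift_snd, Category.assoc] at this
  refine this.trans ?_
  rw [xPt, val_ptMap, val_uPt]
  rfl

/-- A function fixed by the whole group in the regular representation is constant. -/
theorem eq_const_of_mem_fixedUnder (f : Γ(G.left, ⊤)) (hf : f ∈ (regular G).fixedUnder (𝟙 G)) :
    f = algebraMap k Γ(G.left, ⊤) (val (1 : VecGrp.pt k k ⟶ G) f) := by
  have h := hf Γ(G.left, ⊤) (uPt G)
  rw [Category.comp_id, regular_one_tmul] at h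
  let ε : Γ(G.left, ⊤) →ₐ[k] Γ(G.left, ⊤) := (Algebra.ofId k _).comp (val (1 : VecGrp.pt k k ⟶ G))
  let ψ : Γ(G.left, ⊤) ⊗[k] Γ(G.left, ⊤) →ₐ[k] Γ(G.left, ⊤) :=
    Algebra.TensorProduct.lift (AlgHom.id k _) ε fun _ _ => mul_comm _ _
  have := congrArg ψ h
  rw [← AlgHom.comp_apply, ← val_ptMap, MonObj.comp_mul] at this
  have h1 : VecGrp.ptMap ψ ≫ xPt G Γ(G.left, ⊤) = 1 := by
    rw [xPt, ← Category.assoc, ptMap_comp, show ψ.comp Algebra.TensorProduct.includeRight = ε from
      AlgHom.ext fun x => by simp [ψ]]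
    show VecGrp.ptMap ((Algebra.ofId k _).comp (val (1 : VecGrp.pt k k ⟶ G))) ≫ uPt G = 1
    rw [← ptMap_comp, Category.assoc, ptMap_val, MonObj.comp_one]
  have h2 : VecGrp.ptMap ψ ≫ gPt (uPt G) = uPt G := by
    rw [gPt, ← Category.assoc, ptMap_comp, show ψ.comp (Algebra.TensorProduct.includeLeft (S := k)) = AlgHom.id k _ from
      AlgHom.ext fun x => by simp [ψ]]
    rw [show VecGrp.ptMap (AlgHom.id k Γ(G.left, ⊤)) = 𝟙 _ from Over.OverMorphism.ext (Spec.map_id _),
      Category.id_comp]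
  rw [h1, h2, _root_.one_mul (uPt G), val_uPt] at this
  refine this.trans ?_
  show ψ (1 ⊗ₜ f) = _
  rw [Algebra.TensorProduct.lift_tmul, map_one, _root_.one_mul]
  rfl

end Groth.Agent.InvRing21
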