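import Groth.Agent.Lib.InvRing21.Semi
import Groth.Prelude.Def_GmPts

/-!
# Characters and extension of modules from equivariant families of functions
-/

set_option autoImplicit false
set_option linter.style.haveILetI false
set_option backward.isDefEq.respectTransparency.types false
universe u

open CategoryTheory MonoidalCategory CartesianMonoidalCategory MonObj AlgebraicGeometry
open scoped TensorProduct

noncomputable section

namespace Groth.Agent.InvRing21

variable {k : Type u} [Field k]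

attribute [local instance] gamAlg

variable {G H : Over (Spec (CommRingCat.of k))}

/-- The value of a character is the value of its function. -/
theorem chiVal_eq_val {B : Type u} [CommRing B] [Algebra k B] (χ : H ⟶ Red.Gm (Spec (CommRingCat.of k)))
    (h : VecGrp.pt k B ⟶ H) : VecGrp.chiVal χ h = val h (Red.gmFn χ) := by
  rw [VecGrp.chiVal, GmPts.gmFn_comp]
  rfl

variable [GrpObj H]

theorem val_gmFn_mul {B : Type u} [CommRing B] [Algebra k B] (χ : H ⟶ Red.Gm (Spec (CommRingCat.of k))) [IsMonHom χ]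
    (g h : VecGrp.pt k B ⟶ H) : val (g * h) (Red.gmFn χ) = val g (Red.gmFn χ) * val h (Red.gmFn χ) := by
  rw [← chiVal_eq_val, ← chiVal_eq_val, ← chiVal_eq_val, VecGrp.chiVal, MonObj.mul_comp g h χ, GmPts.gmFn_mul, map_mul]
  rfl

theorem val_gmFn_one {B : Type u} [CommRing B] [Algebra k B] (χ : H ⟶ Red.Gm (Spec (CommRingCat.of k))) [IsMonHom χ] :
    val (1 : VecGrp.pt k B ⟶ H) (Red.gmFn χ) = 1 := by
  rw [← chiVal_eq_val, VecGrp.chiVal, MonObj.one_comp χ, GmPts.gmFn_one, map_one]

theorem val_gmFn_inv {B : Type u} [CommRing B] [Algebra k B] (χ : H ⟶ Red.Gm (Spec (CommRingCat.of k)))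
    (h : VecGrp.pt k B ⟶ H) : val h (Red.gmFn χ⁻¹) * val h (Red.gmFn χ) = 1 := by
  rw [← map_mul, GmPts.gmFn_inv, map_one]

/-- The one dimensional module of a character. -/
def charMod [IsAffine H.left] (χ : H ⟶ Red.Gm (Spec (CommRingCat.of k))) [IsMonHom χ] :
    VecGrp.GMod H (PUnit.{u + 1} → k) :=
  ofMatrix (fun _ _ => Red.gmFn χ) (fun B _ _ g h _ _ => by rw [Fintype.sum_unique, val_gmFn_mul])
    (fun B _ _ _ _ => by rw [val_gmFn_one, if_pos (Subsingleton.elim _ _)])

theorem charMod_one_tmul [IsAffine H.left] (χ : H ⟶ Red.Gm (Spec (CommRingCat.of k))) [IsMonHom χ] (B : Type u)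
    [CommRing B] [Algebra k B] (h : VecGrp.pt k B ⟶ H) (v : PUnit.{u + 1} → k) :
    (charMod χ).ρ B h ((1 : B) ⊗ₜ[k] v) = val h (Red.gmFn χ) • ((1 : B) ⊗ₜ[k] v) := by
  rw [charMod, ofMatrix_one_tmul, Fintype.sum_unique, Fintype.sum_unique, TensorProduct.smul_tmul', smul_eq_mul,
    _root_.mul_one, TensorProduct.smul_tmul]
  congr 1
  funext j
  simp

/-- A multiplicative function with value one at the identity is a character. -/
theorem exists_char [IsAlgClosed k] [IsAffine H.left] [Smooth H.hom] (u : Γ(H.left, ⊤))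
    (h1 : val (1 : VecGrp.pt k k ⟶ H) u = 1)
    (hm : ∀ g h : VecGrp.pt k k ⟶ H, val (g * h) u = val g u * val h u) :
    ∃ χ : H ⟶ Red.Gm (Spec (CommRingCat.of k)), IsMonHom χ ∧ Red.gmFn χ = u := by
  have hu : IsUnit u := by
    refine IsUnit.of_mul_eq_one (((𝟙 H)⁻¹ : H ⟶ H).left.appTop u) (ext_val fun x => ?_)
    rw [map_mul, map_one, appTop_val, GrpObj.comp_inv, Category.comp_id, ← hm, mul_inv_cancel, h1]
  refine ⟨GmPts.ptOfUnit hu.unit, ?_, GmPts.gmFn_ptOfUnit _⟩
  have hfn : Red.gmFn (GmPts.ptOfUnit hu.unit : H ⟶ _) = u := GmPts.gmFn_ptOfUnit _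
  haveI : Smooth (𝟙_ (Over (Spec (CommRingCat.of k)))).hom := inferInstanceAs (Smooth (𝟙 _))
  haveI : Smooth (H ⊗ H).hom := inferInstanceAs (Smooth (Limits.pullback.fst H.hom H.hom ≫ H.hom))
  haveI : IsAffine (𝟙_ (Over (Spec (CommRingCat.of k)))).left := inferInstanceAs (IsAffine (Spec _))
  constructor
  · refine GmPts.gmFn_injective ?_
    show Red.gmFn _ = Red.gmFn _
    rw [MonObj.one_eq_one, MonObj.one_eq_one, GmPts.gmFn_comp, hfn, GmPts.gmFn_one]
    refine ext_val fun x => ?_
    rw [appTop_val, map_one, MonObj.comp_one, h1]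
  · refine GmPts.gmFn_injective ?_
    show Red.gmFn _ = Red.gmFn _
    rw [← lift_fst_comp_snd_comp, ← Hom.mul_def, GmPts.gmFn_mul, GmPts.gmFn_comp, GmPts.gmFn_comp, GmPts.gmFn_comp,
      hfn]
    refine ext_val fun q => ?_
    rw [map_mul, appTop_val, appTop_val, appTop_val, ← hm, ← MonObj.comp_mul, Hom.mul_def, lift_fst_snd,
      Category.id_comp]

variable [GrpObj G] [IsAffine G.left]

/-- Evaluation of an `H`-module at a rational point. -/
def ptAct {V : Type u} [AddCommGroup V] [Module k V] (σ : VecGrp.GMod H V) (h : VecGrp.pt k k ⟶ H) (v : V) : V :=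
  TensorProduct.lid k V (σ.ρ k h ((1 : k) ⊗ₜ[k] v))

/-- A jointly injective equivariant finite family of maps into functions gives an extension. -/
theorem extendsAlong_of_equivariant [IsAlgClosed k] [Smooth G.hom] [IsAffine H.left] [Smooth H.hom] (i : H ⟶ G)
    {V : Type u} [AddCommGroup V] [Module k V] [Module.Finite k V] (σ : VecGrp.GMod H V)
    {P : Type u} [Fintype P] (Λ : P → V →ₗ[k] Γ(G.left, ⊤))
    (hinj : ∀ v, (∀ p, Λ p v = 0) → v = 0)
    (heq : ∀ p (x : VecGrp.pt k k ⟶ G) (h : VecGrp.pt k k ⟶ H) v,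
      val x (Λ p (ptAct σ h v)) = val (x * (h ≫ i)) (Λ p v)) :
    σ.ExtendsAlong i := by
  classical
  let b := Module.finBasis k V
  obtain ⟨W, hfin, hsW, hW⟩ := exists_stable_span (regular G)
    (Finset.univ.image fun q : P × Fin (Module.finrank k V) => Λ q.1 (b q.2))
  have hmem : ∀ p v, Λ p v ∈ W := fun p v => by
    rw [← b.sum_repr v, map_sum]
    refine Submodule.sum_mem _ fun j _ => ?_
    rw [map_smul]
    exact W.smul_mem _ (hsW _ (Finset.mem_image.2 ⟨(p, j), Finset.mem_univ _, rfl⟩))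
  let e := Module.finBasis k W
  obtain ⟨ξ, hξ, hexp, hE⟩ := exists_coords (regular G) hW e
  let E : Fin (Module.finrank k W) → Γ(G.left, ⊤) := fun a => e a
  let Y := fun a c => coef (regular G) (ξ a) (E c)
  let J := P × ULift.{u} (Fin (Module.finrank k W))
  let C : J → J → Γ(G.left, ⊤) := fun q r => if q.1 = r.1 then Y q.2.down r.2.down else 0
  have hmul : ∀ (B : Type u) [CommRing B] [Algebra k B] (g h : VecGrp.pt k B ⟶ G) (q r : J),
      val (g * h) (C q r) = ∑ l, val g (C q l) * val h (C l r) := by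
    rintro B _ _ g h ⟨p, a⟩ ⟨p', c⟩
    rw [Fintype.sum_prod_type, Finset.sum_eq_single p (fun x _ hx => Finset.sum_eq_zero fun d _ => by
      simp [C, Ne.symm hx]) (by simp)]
    by_cases hp : p = p'
    · subst hp
      simp only [C, if_true]
      rw [← Equiv.sum_comp Equiv.ulift.symm]
      show ptHom B ((g * h).left.appTop _) = _
      rw [appTop_coef_mul (regular G) E ξ hE g h, map_sum]
      exact Finset.sum_congr rfl fun d _ => map_mul _ _ _
    · simp [C, hp]
  have hone : ∀ (B : Type u) [CommRing B] [Algebra k B] (q r : J),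
      val (1 : VecGrp.pt k B ⟶ G) (C q r) = if q = r then 1 else 0 := by
    rintro B _ _ ⟨p, a⟩ ⟨p', c⟩
    by_cases hp : p = p'
    · subst hp
      simp only [C, if_true]
      show ptHom B ((1 : VecGrp.pt k B ⟶ G).left.appTop _) = _
      rw [appTop_coef_one (regular G) E ξ hξ, apply_ite (ptHom B), map_one, map_zero]
      exact if_congr ⟨fun h => by rw [ULift.ext _ _ h], fun h => by cases h; rfl⟩ rfl rfl
    · rw [if_neg fun h => hp (congrArg Prod.fst h)]
      simp [C, hp]
  let φ : V →ₗ[k] (J → k) := LinearMap.pi fun q => ξ q.2.down ∘ₗ Λ q.1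
  refine ⟨J → k, inferInstance, inferInstance, inferInstance, ofMatrix C hmul hone, φ, ?_, ?_⟩
  · rw [injective_iff_map_eq_zero]
    refine fun v hv => hinj v fun p => ?_
    rw [hexp _ (hmem p v), Finset.sum_eq_zero fun a _ => ?_]
    rw [show ξ a (Λ p v) = φ v (p, ⟨a⟩) from rfl, hv, Pi.zero_apply, zero_smul]
  refine intertwine_of_points σ (ofMatrix C hmul hone) φ fun h v => ?_
  rw [show σ.ρ k h (1 ⊗ₜ[k] v) = 1 ⊗ₜ[k] ptAct σ h v from ((TensorProduct.lid k V).symm_apply_apply _).symm,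
    LinearMap.baseChange_tmul, ofMatrix_one_tmul]
  refine (TensorProduct.lid k (J → k)).injective ?_
  rw [TensorProduct.lid_tmul, one_smul, map_sum]
  simp only [TensorProduct.lid_tmul]
  rw [← (Pi.basisFun k J).sum_repr (φ (ptAct σ h v))]
  refine Finset.sum_congr rfl fun q _ => ?_
  congr 1
  obtain ⟨p, a⟩ := q
  rw [Pi.basisFun_repr]
  show ξ a.down (Λ p (ptAct σ h v)) = _
  have key : Λ p (ptAct σ h v) = ∑ a', (∑ c, ξ c (Λ p v) * val (h ≫ i) (Y a' c)) • E a' := by
    refine ext_val fun x => ?_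
    rw [heq]
    conv_lhs => rw [hexp _ (hmem p v)]
    simp only [map_sum, map_smul, smul_eq_mul, val_mul_coords e hE, Finset.mul_sum, Finset.sum_mul]
    rw [Finset.sum_comm]
    exact Finset.sum_congr rfl fun a' _ => Finset.sum_congr rfl fun c _ => by simp only [Y, E]; ring
  rw [key, map_sum, Fintype.sum_prod_type, Finset.sum_eq_single p (fun x _ hx => Finset.sum_eq_zero fun d _ => by
    simp [C, Ne.symm hx]) (by simp)]
  simp only [map_smul, E, hξ, smul_eq_mul, mul_ite, _root_.mul_one, mul_zero, Finset.sum_ite_eq, Finset.mem_univ, if_true, C]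
  rw [← Equiv.sum_comp Equiv.ulift.symm]
  rfl

/-- A semi-invariant function gives a semi-invariant vector. -/
theorem exists_vector_of_semi [IsAlgClosed k] [Smooth G.hom] [IsAffine H.left] [Smooth H.hom] {i : H ⟶ G}
    (χ : H ⟶ Red.Gm (Spec (CommRingCat.of k))) [IsMonHom χ] {f : Γ(G.left, ⊤)}
    (hf : Semi i (fun h => val h (Red.gmFn χ)) f) (hne : f ≠ 0) :
    ∃ (V : Type u) (_ : AddCommGroup V) (_ : Module k V) (_ : Module.Finite k V) (ρ : VecGrp.GMod G V) (v : V),
      v ≠ 0 ∧ ∀ (B : Type u) [CommRing B] [Algebra k B] (h : VecGrp.pt k B ⟶ H),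
        ρ.ρ B (h ≫ i) ((1 : B) ⊗ₜ[k] v) = VecGrp.chiVal χ h • ((1 : B) ⊗ₜ[k] v) := by
  obtain ⟨W, _, _, _, ρ, φ, hφ, hc⟩ := extendsAlong_of_equivariant i (charMod χ) (P := PUnit.{u + 1})
    (fun _ => (LinearMap.toSpanSingleton k Γ(G.left, ⊤) f) ∘ₗ LinearMap.proj PUnit.unit) (fun v hv => by
      have := hv PUnit.unit
      funext j
      cases j
      simpa [hne] using this)
    (fun p x h v => by
      rw [ptAct, charMod_one_tmul, map_smul, TensorProduct.lid_tmul, one_smul]
      simp only [LinearMap.comp_apply, LinearMap.toSpanSingleton_apply, LinearMap.proj_apply, map_smul, smul_eq_mul]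
      rw [hf]
      ring)
  refine ⟨W, _, _, inferInstance, ρ, φ fun _ => 1, fun h0 => ?_, fun B _ _ h => ?_⟩
  · have := hφ (h0.trans (map_zero φ).symm)
    exact one_ne_zero (congrFun this PUnit.unit)
  · have := hc B h ((1 : B) ⊗ₜ[k] fun _ => 1)
    rw [charMod_one_tmul, map_smul, LinearMap.baseChange_tmul] at this
    rw [chiVal_eq_val]
    exact this.symm

/-- A semi-invariant vector gives a semi-invariant function. -/
theorem exists_semi_of_char_vector {i : H ⟶ G} (χ : H ⟶ Red.Gm (Spec (CommRingCat.of k)))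
    {V : Type u} [AddCommGroup V] [Module k V] (ρ : VecGrp.GMod G V) (v : V) (hv : v ≠ 0)
    (hc : ∀ (B : Type u) [CommRing B] [Algebra k B] (h : VecGrp.pt k B ⟶ H),
      ρ.ρ B (h ≫ i) ((1 : B) ⊗ₜ[k] v) = VecGrp.chiVal χ h • ((1 : B) ⊗ₜ[k] v)) :
    ∃ f, Semi i (fun h => val h (Red.gmFn χ)) f ∧ val (1 : VecGrp.pt k k ⟶ G) f = 1 :=
  exists_semi_of_vector ρ v hv fun h => by rw [hc k h, chiVal_eq_val]

end Groth.Agent.InvRing21
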