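import Groth.Agent.Lib.InvRing21.Regular
import Mathlib.LinearAlgebra.Dimension.Finite

/-!
# Matrix representations from rational modules
-/

set_option autoImplicit false
set_option linter.style.haveILetI false
set_option backward.isDefEq.respectTransparency.types false
universe u

open CategoryTheory MonoidalCategory CartesianMonoidalCategory MonObj AlgebraicGeometry
open scoped TensorProduct

noncomputable section

namespace Groth.Agent.InvRing21

variable {k : Type u} [Field k]

attribute [local instance] gamAlg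

variable {G : Over (Spec (CommRingCat.of k))} [GrpObj G] [IsAffine G.left]
variable {M : Type u} [AddCommGroup M] [Module k M] (ρ : VecGrp.GMod G M)

theorem lTensor_smul' {B : Type u} [CommRing B] [Algebra k B] (ξ : Module.Dual k M) (b : B) (x : B ⊗[k] M) :
    ctr ξ (b • x) = b * ctr ξ x := by
  induction x using TensorProduct.induction_on with
  | zero => simp
  | tmul c m => rw [TensorProduct.smul_tmul', ctr_tmul, ctr_tmul, smul_eq_mul, Algebra.mul_smul_comm]
  | add x y hx hy => simp only [smul_add, map_add, hx, hy, mul_add]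

theorem ctr_rho {B : Type u} [CommRing B] [Algebra k B] (p : VecGrp.pt k B ⟶ G) (ξ : Module.Dual k M) (v : M) :
    ctr ξ (ρ.ρ B p (1 ⊗ₜ[k] v)) = val p (coef ρ ξ v) := by
  conv_lhs => rw [← ptMap_val p, ← map_one (val p), ← VecGrp.Wmap_tmul (val p) 1 v, ← ρ.naturality, ← ctr_Wmap]
  rfl

theorem one_eq_ptMap (B : Type u) [CommRing B] [Algebra k B] :
    (1 : VecGrp.pt k B ⟶ G) = VecGrp.ptMap (Algebra.ofId k B) ≫ 1 := (MonObj.comp_one _).symm

/-- Every vector lies in a finite dimensional subspace containing all its translates. -/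
theorem exists_finite_stable (a : M) : ∃ (n : ℕ) (v : Fin n → M) (ξ : Fin n → Module.Dual k M),
    (∀ i j, ξ i (v j) = if i = j then 1 else 0) ∧ a ∈ Submodule.span k (Set.range v) ∧
      ∀ (j : Fin n) (B : Type u) [CommRing B] [Algebra k B] (p : VecGrp.pt k B ⟶ G),
        ρ.ρ B p (1 ⊗ₜ[k] v j) = ∑ i, val p (coef ρ (ξ i) (v j)) ⊗ₜ[k] v i := by
  classical
  let bA := Module.Free.chooseBasis k Γ(G.left, ⊤)
  let c : Module.Free.ChooseBasisIndex k Γ(G.left, ⊤) →₀ M :=
    TensorProduct.equivFinsuppOfBasisLeft bA (ρ.ρ Γ(G.left, ⊤) (uPt G) (1 ⊗ₜ[k] a))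
  let V : Submodule k M := Submodule.span k (c.support.image c : Set M)
  haveI : Module.Finite k V := Module.Finite.span_of_finite k (Finset.finite_toSet _)
  have hexp : ρ.ρ Γ(G.left, ⊤) (uPt G) (1 ⊗ₜ[k] a) = ∑ l ∈ c.support, bA l ⊗ₜ[k] c l :=
    ((TensorProduct.equivFinsuppOfBasisLeft bA).symm_apply_apply _).symm.trans
      (TensorProduct.equivFinsuppOfBasisLeft_symm_apply bA c)
  have hc : ∀ l ∈ c.support, c l ∈ V := fun l hl => Submodule.subset_span (Finset.mem_image_of_mem c hl)
  have ha : a ∈ V := by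
    have := congrArg (VecGrp.Wmap (val (1 : VecGrp.pt k k ⟶ G))) hexp
    rw [ρ.naturality, ptMap_val, map_one, LinearEquiv.coe_one, id_eq, VecGrp.Wmap_tmul, map_one, map_sum] at this
    have e := congrArg (TensorProduct.lid k M) this
    rw [TensorProduct.lid_tmul, one_smul, map_sum] at e
    rw [e]
    exact Submodule.sum_mem _ fun l hl => by
      rw [VecGrp.Wmap_tmul, TensorProduct.lid_tmul]
      exact V.smul_mem _ (hc l hl)
  -- linear forms killing `V` kill all translates of `V`
  have hst : ∀ l ∈ c.support, ∀ ξ : Module.Dual k M, (∀ x ∈ V, ξ x = 0) → coef ρ ξ (c l) = 0 := by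
    intro l₀ hl₀ ξ hξ
    let D := Γ(G.left, ⊤) ⊗[k] Γ(G.left, ⊤)
    let p : VecGrp.pt k D ⟶ G := VecGrp.ptMap (Algebra.TensorProduct.includeLeft) ≫ uPt G
    let q : VecGrp.pt k D ⟶ G := VecGrp.ptMap (Algebra.TensorProduct.includeRight) ≫ uPt G
    have hr : ∀ r : VecGrp.pt k D ⟶ G, ρ.ρ D r (1 ⊗ₜ[k] a) = ∑ l ∈ c.support, val r (bA l) ⊗ₜ[k] c l := fun r => by
      conv_lhs => rw [← ptMap_val r, ← map_one (val r), ← VecGrp.Wmap_tmul (val r) 1 a, ← ρ.naturality, hexp, map_sum]
      simp
    have key : ∑ l ∈ c.support, coef ρ ξ (c l) ⊗ₜ[k] bA l = (0 : D) := by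
      have h1 : ctr ξ (ρ.ρ D (p * q) (1 ⊗ₜ[k] a)) = 0 := by
        rw [hr, map_sum]
        exact Finset.sum_eq_zero fun l hl => by rw [ctr_tmul, hξ _ (hc l hl), zero_smul]
      rw [rho_mul, hr, map_sum, map_sum] at h1
      refine Eq.trans (Finset.sum_congr rfl fun l _ => ?_) h1
      have e : val q (bA l) ⊗ₜ[k] c l = val q (bA l) • ((1 : D) ⊗ₜ[k] c l) := by
        rw [TensorProduct.smul_tmul', smul_eq_mul, _root_.mul_one]
      rw [e, map_smul, lTensor_smul', ctr_rho, val_ptMap, val_ptMap, val_uPt]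
      show _ = ((1 : Γ(G.left, ⊤)) ⊗ₜ[k] bA l) * (coef ρ ξ (c l) ⊗ₜ[k] (1 : Γ(G.left, ⊤)))
      rw [Algebra.TensorProduct.tmul_mul_tmul, _root_.one_mul, _root_.mul_one]
    have := congrArg (fun z => TensorProduct.equivFinsuppOfBasisRight bA z l₀) key
    simpa [map_sum, Finsupp.single_apply, TensorProduct.equivFinsuppOfBasisRight_apply_tmul, hl₀] using this
  let b := Module.finBasis k V
  obtain ⟨P, hP⟩ := V.exists_isCompl
  let ξ : Fin (Module.finrank k V) → Module.Dual k M := fun i => b.coord i ∘ₗ V.projectionOnto P hP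
  have hξ : ∀ i j, ξ i (b j : M) = if i = j then 1 else 0 := fun i j => by
    simp [ξ, Finsupp.single_apply, eq_comm]
  have hsum : ∀ x : M, x ∈ V → x = ∑ i, ξ i x • (b i : M) := fun x hx => by
    have := congrArg V.subtype (b.sum_repr ⟨x, hx⟩)
    rw [map_sum] at this
    refine this.symm.trans (Finset.sum_congr rfl fun i _ => ?_)
    simp [ξ, Submodule.projectionOnto_apply_left hP ⟨x, hx⟩]
  refine ⟨_, fun j => (b j : M), ξ, hξ, ?_, fun j B _ _ p => eq_of_ctr_eq fun ζ => ?_⟩
  · rw [hsum a ha]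
    exact Submodule.sum_mem _ fun i _ => Submodule.smul_mem _ _ (Submodule.subset_span ⟨i, rfl⟩)
  · let ζ' : Module.Dual k M := ζ - ∑ i, ζ (b i : M) • ξ i
    have hζ' : ∀ x ∈ V, ζ' x = 0 := fun x hx => by
      simp only [ζ', LinearMap.sub_apply, LinearMap.sum_apply, LinearMap.smul_apply, smul_eq_mul]
      conv_lhs => arg 1; rw [hsum x hx, map_sum]
      rw [sub_eq_zero]
      exact Finset.sum_congr rfl fun i _ => by rw [map_smul, smul_eq_mul, mul_comm]
    have hzero : ∀ x ∈ V, coef ρ ζ' x = 0 := fun x hx => by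
      refine Submodule.span_induction (fun y hy => ?_) ?_ (fun y z _ _ hy hz => ?_) (fun t y _ hy => ?_) hx
      · obtain ⟨l, hl, rfl⟩ := Finset.mem_image.1 hy
        exact hst l hl ζ' hζ'
      · simp [coef]
      · simp only [coef, TensorProduct.tmul_add, map_add] at hy hz ⊢
        rw [hy, hz, add_zero]
      · simp only [coef] at hy ⊢
        rw [TensorProduct.tmul_smul, ← algebraMap_smul Γ(G.left, ⊤) t, map_smul, lTensor_smul', hy, mul_zero]
    rw [map_sum]
    have := hzero (b j : M) (b j).2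
    rw [ctr_rho]
    have hlin : coef ρ ζ (b j : M) = coef ρ ζ' (b j : M) + ∑ i, ζ (b i : M) • coef ρ (ξ i) (b j : M) := by
      simp only [coef]
      generalize ρ.ρ Γ(G.left, ⊤) (uPt G) (1 ⊗ₜ[k] (b j : M)) = z
      induction z using TensorProduct.induction_on with
      | zero => simp
      | tmul c m => simp [ctr_tmul, ζ', sub_smul, Finset.sum_smul, smul_smul]
      | add x y hx hy => simp only [map_add, smul_add, Finset.sum_add_distrib, hx, hy]; abel
    rw [hlin, this, zero_add, map_sum]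
    exact Finset.sum_congr rfl fun i _ => by rw [ctr_tmul, map_smul]

end Groth.Agent.InvRing21

namespace Groth.Agent.InvRing21

variable {k : Type u} [Field k]

attribute [local instance] gamAlg

variable {G : Over (Spec (CommRingCat.of k))} [GrpObj G] [IsAffine G.left]
variable {M : Type u} [AddCommGroup M] [Module k M] (ρ : VecGrp.GMod G M)

theorem val_uPt_comp {T : Over (Spec (CommRingCat.of k))} [IsAffine T.left] (x : T ⟶ G) (f : Γ(G.left, ⊤)) :
    val (uPt T ≫ x) f = x.left.appTop f := by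
  rw [← ptMap_appAlg, val_ptMap, val_uPt]
  rfl

/-- The matrix coefficients in an adapted system of vectors are multiplicative. -/
theorem appTop_coef_mul {n : ℕ} (v : Fin n → M) (ξ : Fin n → Module.Dual k M)
    (hv : ∀ (j : Fin n) (B : Type u) [CommRing B] [Algebra k B] (p : VecGrp.pt k B ⟶ G),
      ρ.ρ B p (1 ⊗ₜ[k] v j) = ∑ i, val p (coef ρ (ξ i) (v j)) ⊗ₜ[k] v i)
    {T : Over (Spec (CommRingCat.of k))} (x y : T ⟶ G) (i j : Fin n) :
    (x * y).left.appTop (coef ρ (ξ i) (v j)) =
      ∑ l, x.left.appTop (coef ρ (ξ i) (v l)) * y.left.appTop (coef ρ (ξ l) (v j)) := by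
  have key : (fst G G * snd G G).left.appTop (coef ρ (ξ i) (v j)) =
      ∑ l, (fst G G).left.appTop (coef ρ (ξ i) (v l)) * (snd G G).left.appTop (coef ρ (ξ l) (v j)) := by
    rw [← val_uPt_comp (fst G G * snd G G), ← ctr_rho, MonObj.comp_mul, rho_mul, hv, map_sum, map_sum]
    refine Finset.sum_congr rfl fun l _ => ?_
    have e : val (uPt (G ⊗ G) ≫ snd G G) (coef ρ (ξ l) (v j)) ⊗ₜ[k] v l =
        val (uPt (G ⊗ G) ≫ snd G G) (coef ρ (ξ l) (v j)) • ((1 : Γ((G ⊗ G).left, ⊤)) ⊗ₜ[k] v l) := by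
      rw [TensorProduct.smul_tmul', smul_eq_mul, _root_.mul_one]
    rw [e, map_smul, lTensor_smul', ctr_rho, val_uPt_comp, val_uPt_comp, _root_.mul_comm]
  have h := congrArg (lift x y).left.appTop key
  rw [map_sum] at h
  simp only [map_mul, ← CommRingCat.comp_apply, ← Scheme.Hom.comp_appTop, ← Over.comp_left] at h
  simpa [MonObj.comp_mul] using h

/-- The matrix coefficients at the unit. -/
theorem appTop_coef_one {n : ℕ} (v : Fin n → M) (ξ : Fin n → Module.Dual k M)
    (hξ : ∀ i j, ξ i (v j) = if i = j then 1 else 0) (T : Over (Spec (CommRingCat.of k))) (i j : Fin n) :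
    (1 : T ⟶ G).left.appTop (coef ρ (ξ i) (v j)) = if i = j then 1 else 0 := by
  haveI : IsAffine (VecGrp.pt k k).left := inferInstanceAs (IsAffine (Spec (CommRingCat.of k)))
  let u : T ⟶ VecGrp.pt k k := Over.homMk T.hom (by
    show T.hom ≫ Spec.map (CommRingCat.ofHom (algebraMap k k)) = T.hom
    rw [show CommRingCat.ofHom (algebraMap k k) = 𝟙 _ from rfl, Spec.map_id, Category.comp_id])
  rw [show (1 : T ⟶ G) = u ≫ 1 from (MonObj.comp_one u).symm, Over.comp_left, Scheme.Hom.comp_appTop,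
    CommRingCat.comp_apply, appTop_coef, MonObj.comp_one, map_one, LinearEquiv.coe_one, id_eq, ctr_tmul, hξ]
  split_ifs <;> simp only [one_smul, zero_smul, map_one, map_zero]

end Groth.Agent.InvRing21
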