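import Groth.Agent.Lib.InvRing21.Line
import Mathlib.RingTheory.Flat.Basic

/-!
# The regular representation restricted to a subgroup
-/

set_option autoImplicit false
set_option linter.style.haveILetI false
set_option backward.isDefEq.respectTransparency.types false
universe u

open CategoryTheory MonoidalCategory CartesianMonoidalCategory MonObj AlgebraicGeometry
open scoped TensorProduct

noncomputable section

namespace Groth.Agent.InvRing21

variable {k : Type u} [Field k]

attribute [local instance] gamAlg

variable {G H : Over (Spec (CommRingCat.of k))} [GrpObj G] [GrpObj H] [IsAffine G.left]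

/-- The regular representation of `G` restricted along `i`. -/
def regularRes (i : H ⟶ G) [IsMonHom i] : VecGrp.GMod H Γ(G.left, ⊤) where
  ρ B _ _ := ((regular G).ρ B).comp
    { toFun := fun h => h ≫ i, map_one' := MonObj.one_comp i, map_mul' := fun g h => MonObj.mul_comp g h i }
  naturality {B B'} _ _ _ _ φ g x := by
    show VecGrp.Wmap φ ((regular G).ρ B (g ≫ i) x) = (regular G).ρ B' ((VecGrp.ptMap φ ≫ g) ≫ i) (VecGrp.Wmap φ x)
    rw [(regular G).naturality, Category.assoc]

theorem regularRes_apply (i : H ⟶ G) [IsMonHom i] (B : Type u) [CommRing B] [Algebra k B] (h : VecGrp.pt k B ⟶ H)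
    (x : B ⊗[k] Γ(G.left, ⊤)) : (regularRes i).ρ B h x = (regular G).ρ B (h ≫ i) x := rfl

theorem regularRes_isMult (i : H ⟶ G) [IsMonHom i] : (regularRes i).IsMult := by
  intro B _ _ h
  exact ⟨fun x y => map_mul (tr (h ≫ i)) x y, map_one (tr (h ≫ i))⟩

theorem isRTransInv_of_fixed [IsAffine H.left] (i : H ⟶ G) [IsMonHom i] (f : Γ(G.left, ⊤))
    (hf : f ∈ (regularRes i).fixedUnder (𝟙 H)) : AGF.IsRTransInv i f := by
  refine isRTransInv_of_regular_fixed i f ?_
  have := hf Γ(H.left, ⊤) (uPt H)
  rwa [Category.comp_id, regularRes_apply] at this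

/-- The functions vanishing along a map compatible with translations form a stable subspace. -/
theorem isStable_ker [IsAffine H.left] (i : H ⟶ G) [IsMonHom i] (j : H ⟶ G)
    (hj : ∀ {T : Over (Spec (CommRingCat.of k))} (a b : T ⟶ H), (a ≫ j) * (b ≫ i) = (a * b) ≫ j) :
    (regularRes i).IsStable (𝟙 H) ((RingHom.ker (appAlg j)).restrictScalars k) := by
  intro B _ _ h f hf
  have hf0 : appAlg j f = 0 := hf
  rw [Category.comp_id, regularRes_apply, regular_one_tmul]
  set z := val (xPt G B * gPt (h ≫ i)) f with hz
  let P : B ⊗[k] Γ(G.left, ⊤) →ₐ[k] B ⊗[k] Γ(H.left, ⊤) := Algebra.TensorProduct.map (AlgHom.id k B) (appAlg j)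
  have hzero : P z = 0 := by
    rw [hz, ← AlgHom.comp_apply, ← val_ptMap, MonObj.comp_mul]
    have e1 : VecGrp.ptMap P ≫ xPt G B = xPt H B ≫ j := by
      rw [xPt, xPt, ← Category.assoc, ptMap_comp, Category.assoc, ← ptMap_appAlg, ← Category.assoc, ptMap_comp]
      congr 2
    have e2 : VecGrp.ptMap P ≫ gPt (h ≫ i) =
        (VecGrp.ptMap (Algebra.TensorProduct.includeLeft : B →ₐ[k] B ⊗[k] Γ(H.left, ⊤)) ≫ h) ≫ i := by
      rw [gPt, ← Category.assoc, ptMap_comp, Category.assoc]
      congr 2
      exact AlgHom.ext fun b => by simp [P]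
    rw [e1, e2, hj, ← appTop_val, ← appAlg_apply, hf0, map_zero]
  obtain ⟨w, hw⟩ := (Module.Flat.lTensor_exact B
    (LinearMap.exact_subtype_ker_map (appAlg j).toLinearMap) z).1 (by
      rw [← hzero]
      clear hzero hz
      induction z using TensorProduct.induction_on with
      | zero => simp
      | tmul b x => simp [P]
      | add x y hx hy => simp only [map_add, hx, hy])
  rw [← hw]
  clear hw hz hzero
  induction w using TensorProduct.induction_on with
  | zero => simp
  | tmul b x =>
    rw [LinearMap.lTensor_tmul]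
    exact Submodule.tmul_mem_baseChange_of_mem b x.2
  | add x y hx hy => rw [map_add]; exact Submodule.add_mem _ hx hy

theorem isRadical_ker [IsReduced H.left] (j : H ⟶ G) : (RingHom.ker (appAlg j)).IsRadical := by
  rintro x ⟨n, hn⟩
  have : (appAlg j x) ^ n = 0 := by rw [← map_pow]; exact hn
  exact IsNilpotent.eq_zero ⟨n, this⟩

end Groth.Agent.InvRing21
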