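import Mathlib.RingTheory.IntegralClosure.IntegrallyClosed
import Mathlib.RingTheory.Localization.FractionRing
import Mathlib.Tactic

/-!
# Saturated subrings of normal domains are normal
-/

set_option autoImplicit false

universe u

namespace Groth.Agent.InvRing21

/-- A subring closed under the divisions possible in the ambient normal domain is normal. -/
theorem isIntegrallyClosed_of_saturated {A S : Type u} [CommRing A] [IsDomain A] [IsIntegrallyClosed A]
    [CommRing S] (φ : S →+* A) (hφ : Function.Injective φ)
    (hsat : ∀ (y : A) (b : S), b ≠ 0 → (∃ a : S, φ a = y * φ b) → ∃ s : S, φ s = y) :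
    IsIntegrallyClosed S := by
  haveI : IsDomain S := hφ.isDomain
  let j : FractionRing S →+* FractionRing A :=
    IsLocalization.map (FractionRing A) φ (nonZeroDivisors_le_comap_nonZeroDivisors_of_injective φ hφ)
  have hj : ∀ s, j (algebraMap S (FractionRing S) s) = algebraMap A (FractionRing A) (φ s) := fun s =>
    IsLocalization.map_eq _ s
  rw [isIntegrallyClosed_iff (FractionRing S)]
  intro x hx
  obtain ⟨a, b, hb, rfl⟩ := IsFractionRing.div_surjective S x
  obtain ⟨p, hp, hev⟩ := hx
  have hint : IsIntegral A (j (algebraMap S (FractionRing S) a / algebraMap S (FractionRing S) b)) := by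
    refine ⟨p.map φ, hp.map φ, ?_⟩
    have e : (algebraMap A (FractionRing A)).comp φ = j.comp (algebraMap S (FractionRing S)) :=
      RingHom.ext fun s => (hj s).symm
    rw [Polynomial.eval₂_map, e, ← Polynomial.hom_eval₂, hev, map_zero]
  obtain ⟨y, hy⟩ := (isIntegrallyClosed_iff (FractionRing A)).1 inferInstance hint
  rw [map_div₀, hj, hj] at hy
  have hb0 : b ≠ 0 := nonZeroDivisors.ne_zero hb
  have hφb : algebraMap A (FractionRing A) (φ b) ≠ 0 := fun h => hb0 (hφ (by
    rw [map_zero]; exact IsFractionRing.injective A _ (h.trans (map_zero _).symm)))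
  obtain ⟨s, rfl⟩ := hsat y b hb0 ⟨a, IsFractionRing.injective A (FractionRing A)
    (by rw [map_mul, hy, div_mul_cancel₀ _ hφb])⟩
  refine ⟨s, (eq_div_iff fun h => hb0 (IsFractionRing.injective S _ (h.trans (map_zero _).symm))).2 ?_⟩
  rw [← map_mul]
  congr 1
  apply hφ
  rw [map_mul]
  exact IsFractionRing.injective A (FractionRing A) (by rw [map_mul, hy, div_mul_cancel₀ _ hφb])

end Groth.Agent.InvRing21
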